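import Cfsg.Agent.UGT.A9.BadEnd_m3
import Cfsg.Agent.UGT.N2W.Type34
import Cfsg.Agent.UGT.I34.ONTwo_m3
import Cfsg.Agent.UGT.L34T2.Good_m3
import Cfsg.Agent.OddHalf.D9.DoubleKill_m3
import Cfsg.Agent.UGT.Res.WLeaf_m3
import Cfsg.Agent.S0205
import Cfsg.Agent.UGT.L2i.ToQ2_m3
import Cfsg.Agent.UGT.U2.FOne.Final_m3
import Cfsg.Agent.S1291
import Cfsg.Agent.GH.FinalKFour
import Cfsg.Agent.S1738
import Cfsg.Agent.Cit.FinalMain
import Cfsg.Agent.UGT.End_m3
import Cfsg.Agent.UGT.L2i.Final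
import Cfsg.Agent.UGT.HFAbs_m3
import Cfsg.Agent.UGT.I34.Final
import Cfsg.Agent.UGT.A9.DgEight_m3
import Cfsg.Agent.FastGrp
import Cfsg.Agent.Prune
set_option linter.all false

section
prune_inst 0x7ffcfefbaff9bddeffff7e7ffffddffffdfdfffffffffffbfffdffffffff6b6ffff5fbafffffdafffef7f2b6b2f87bf3fdffeabfeffbdd7fffff5ff47fffff9fffffbfaf5dffb8be1ffe7ffffbffffffffffffffffffffffffffffffffffffffffffffffffff

-- part: UGT/N2W/CaseA
section
prune_inst 0x300041004422100000000000200000002000000000000000200000000008000080400000000000000000000000000020000000000000000000000000000000000000000000000000000000000000000000000000000000000000000000000000000000000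
set_option linter.all false
open scoped Cfsg.Agent.FastGrp

/-!
# The double case (N2, cores, bb #17697): two triples `(x, a, L)`, `(x, a, N)`, `L ≠ N`, of type `L₃(4)`

* `Pt W L r`: `C(r) ≤ N(W)`, `[cen L r, O(C(r))] ≤ W`.
* `pump_w`: the pump-ups of a triple with `Fn W a L` have the same `W`; `pt_of`: `Pt W L c`.
* `Dbl x a W L N`; `dbl_of`; `Dbl.pt`: `Pt W L r` for the involutions `r` of `N`.
* `Dbl.le_cw`: `[L, O(N(W))] ≤ W`.
* `Pc W L K`: `K = L O(K)` a 2-component of `N(W)`, `[L, O(N(W))] ≤ W`; `Pc.comm`.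
* `exists_nd`: both 2-components in 2-components of `N(W)`.
* `many_of_dbl`: `∃ 𝓗, Many W 𝓗`; `noDbl`.
-/

set_option autoImplicit false
set_option linter.unusedSectionVars false

open Cfsg Subgroup
open Cfsg.Agent.SignalizersComponents Cfsg.Agent.Lib
open Cfsg.Agent.SignalizersComponents.IntrinsicBasic
open Cfsg.Agent.Intrinsic.Basic Cfsg.Agent.Intrinsic.Cen Cfsg.Agent.Intrinsic.Diag
open Cfsg.Agent.McLLyComp.Act
open Cfsg.Agent.UGT.Triple Cfsg.Agent.UGT.PumpGen Cfsg.Agent.UGT.TriBase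
open Cfsg.Agent.UGT.A9.Marker
open Cfsg.Agent.UGT.Iface (Bar IsL34 MinCex)
open Cfsg.Agent.UGT.Nodes (WorldL34)
open Cfsg.Agent.UGT.NodeHeG (HF)
open Cfsg.Agent.UGT.Res.Base Cfsg.Agent.UGT.Res.Abel Cfsg.Agent.UGT.Res.CoreFree
open Cfsg.Agent.UGT.Res.WFun (el_of_sq el_mono el_sup el_cj el_zpowers mem_zpowers_of_sq mem_zpowers_sup
  two_mul_card_le card_mul_le_sup exists_commuting isSyl_of_sup)
open Cfsg.Agent.UGT.Res.WPair (cj_normalizer cj_sup cj_commutator cj_le_iff mem_sup_left_iff)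
open Cfsg.Agent.UGT.Res.W1 (cw mem_cw comm_symm le_cw_self le_normalizer_of_cj_le two_mem mem_of_conj)
open Cfsg.Agent.UGT.N2S (TT Typ)
open scoped commutatorElement

namespace Cfsg.Agent.UGT.N2W.CaseA

open Fun Entr

universe u

variable {G : Type u} [Group G] [Finite G] {W L N K K' L' A J : Subgroup G} {x a c r g : G}

/-! ### commuting modulo `W` -/

omit [Finite G] in
theorem cj_cw_le (g : G) : cj g (cw W A) ≤ cw (cj g W) (cj g A) := by
  intro y hy
  rw [mem_cj] at hy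
  obtain ⟨h1, h2⟩ := mem_cw.mp hy
  refine mem_cw.mpr ⟨?_, fun b hb => ?_⟩
  · rw [← cj_normalizer, mem_cj]
    exact h1
  · rw [mem_cj] at hb ⊢
    have h3 := h2 _ hb
    convert h3 using 1
    simp only [commutatorElement_def]
    group

theorem mem_normalizer_cw {g : G} (hg : g ∈ normalizer (W : Set G)) (hA : g ∈ normalizer (A : Set G)) :
    g ∈ normalizer (cw W A : Set G) := by
  rw [mem_normalizer_iff_cj]
  have h1 := cj_cw_le (W := W) (A := A) g
  rw [mem_normalizer_iff_cj.mp hg, mem_normalizer_iff_cj.mp hA] at h1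
  exact Subgroup.eq_of_le_of_card_ge h1 (by rw [card_cj])

/-- `C(r) ≤ N(W)`, `[cen L r, O(C(r))] ≤ W` -/
structure Pt (W L : Subgroup G) (r : G) : Prop where
  fine : Fine W r
  ck : cen L r ≤ cw W (core (centralizer ({r} : Set G)))

theorem Pt.conj (h : Pt W L r) (hg : g ∈ normalizer (W : Set G)) (hgL : g ∈ normalizer (L : Set G)) :
    Pt W L (g * r * g⁻¹) := by
  refine ⟨h.fine.conj_mem hg, ?_⟩
  have h1 := (cj_mono (g := g) h.ck).trans (cj_cw_le g)
  rwa [cj_cen, mem_normalizer_iff_cj.mp hgL, mem_normalizer_iff_cj.mp hg, ← core_cj, cj_centralizer] at h1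

/-! ### pump-ups -/

/-- the pump-ups have the same `W` -/
theorem pump_w (Wt : Typ G) (T3 : ThreeBal G) (T : TT x a L) (F : Fn W a L)
    (oc : orderOf c = 2) (hne : c ≠ a) (hca : c * a = a * c) (hcx : c * x = x * c) (hcL : Fixes c L) :
    ∃ N, TT x c N ∧ Fn W c N ∧ ((a ∈ normalizer (N : Set G) ∧ cen L c ≤ N) ∨
      (IntrinsicBasic.cj a N ≠ N ∧ cen L c = diag (centralizer ({c} : Set G)) N a)) := by
  have haa := sq_of_order T.inva
  obtain ⟨hJ, hs⟩ := isComp_cen T.comp (mem_c hca) (sq_of_order oc) hcL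
  have hJ34 : IsL34 (Bar (cen L c)) := by
    obtain ⟨e, -⟩ := exists_quotEquiv hs
    exact isL34_congr e.symm T.l34
  obtain ⟨N, S, hN34, hor⟩ := N2S.pump34 N2S.OneGlue.kfs Wt T.toIsTriple T.l34 oc hca hcx hcL
  rcases hor with ⟨haN, hle, hsup⟩ | ⟨hneN, hd⟩
  · have haf : Fixes a N := by
      have h1 : Fixes a (cen L c) := fixes_self' ((cen_le L c).trans T.comp.le)
      exact (fixes_iff_of_sup hsup h1.1 haN).mp h1
    obtain ⟨W', F'⟩ := fn_of Wt T3 oc S.comp hN34 T.inva hne.symm hca.symm haf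
    have hWW : W = W' := F.eq_of_cover F' (cen_le L c) hle hJ34
    exact ⟨N, ⟨S, hN34⟩, hWW ▸ F', Or.inl ⟨haN, hle⟩⟩
  · have S' : TT x c (cj a N) := by
      have h1 := (⟨S, hN34⟩ : TT x c N).cj a
      rwa [T.comm, mul_inv_cancel_right, ← hca, mul_inv_cancel_right] at h1
    -- an involution of `N^a`
    obtain ⟨A, hA, hA2, hA16⟩ := exists_A S'.l34
    obtain ⟨u, hu, hu1, -⟩ := exists_ne (B := A) (by rw [hA16]; norm_num) 1
    have hou : orderOf u = 2 := orderOf_eq_prime (by rw [pow_two]; exact hA2 u hu) hu1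
    have huf : Fixes u N := S.comp.fixes_of_mem S'.comp (Ne.symm hneN) (hA hu)
    have huc : u ≠ c := by
      rintro rfl
      exact hu1 (eq_one_of_l34 S'.l34 (hA hu) (hA2 u hu) (fixes_self' S'.comp.le))
    obtain ⟨W', F'⟩ := fn_of Wt T3 oc S.comp hN34 hou huc (comm_c (S'.comp.le (hA hu))) huf
    have hWW := link_diag T3 F F' hca hneN hd
    exact ⟨N, ⟨S, hN34⟩, hWW ▸ F', Or.inr ⟨hneN, hd⟩⟩

theorem le_cw_of_fn (F : Fn W c N) : N ≤ cw W (core (centralizer ({c} : Set G))) := fun l hl =>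
  mem_cw.mpr ⟨F.le_norm hl, fun w hw => F.ck w hw l hl⟩

/-- **`Pt` at the second involutions** -/
theorem pt_of (Wt : Typ G) (T3 : ThreeBal G) (T : TT x a L) (F : Fn W a L)
    (oc : orderOf c = 2) (hne : c ≠ a) (hca : c * a = a * c) (hcx : c * x = x * c) (hcL : Fixes c L) :
    Pt W L c := by
  have haa := sq_of_order T.inva
  obtain ⟨hJ, hs⟩ := isComp_cen T.comp (mem_c hca) (sq_of_order oc) hcL
  obtain ⟨N, S, F', hor⟩ := pump_w Wt T3 T F oc hne hca hcx hcL
  refine ⟨F'.cent, ?_⟩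
  rcases hor with ⟨-, hle⟩ | ⟨hneN, hd⟩
  · exact hle.trans (le_cw_of_fn F')
  · have haC : a ∈ centralizer ({c} : Set G) := mem_c hca.symm
    have haW := F.cent (mem_c rfl : a ∈ centralizer ({a} : Set G))
    obtain ⟨C, hC⟩ : ∃ C, C = cw W (core (centralizer ({c} : Set G))) := ⟨_, rfl⟩
    have hCn : centralizer ({c} : Set G) ≤ normalizer (C : Set G) := by
      intro y hy
      rw [hC]
      exact mem_normalizer_cw (F'.cent hy) (le_normalizer_core _ hy)
    have hNC : N ≤ C := hC ▸ le_cw_of_fn F'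
    have hNC' : cj a N ≤ C := by
      have h1 := cj_mono (g := a) hNC
      rwa [mem_normalizer_iff_cj.mp (hCn haC)] at h1
    rw [← hC]
    refine hJ.le_of_two fun m hm n hn => ?_
    rw [hd] at hm
    obtain ⟨h1, h2, -, -⟩ := exists_diag F'.comp haC haa hneN
    obtain ⟨k, hk, hmk⟩ := h2 m hm
    have hmC : m ∈ centralizer ({c} : Set G) := (h1.le hm).1
    have hk' : a * k * a⁻¹ ∈ cj a N := conj_mem_cj hk
    have hkC : k * (a * k * a⁻¹) ∈ C := mul_mem (hNC hk) (hNC' hk')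
    obtain ⟨o, ho⟩ : ∃ o, o = m⁻¹ * (k * (a * k * a⁻¹)) := ⟨_, rfl⟩
    rw [← ho] at hmk
    have hoC := core_le _ hmk
    -- `m = (k k^a) o⁻¹`
    refine mem_of_pow (m := k * (a * k * a⁻¹)) (c := o⁻¹) (by rw [ho]; group) hkC (hCn (inv_mem hoC)) ?_ hn
    exact odd_order_of_core (inv_mem hmk)

/-! ### the double configuration -/

/-- two 2-components -/
structure Dbl (x a : G) (W L N : Subgroup G) : Prop where
  T : TT x a L
  S : TT x a N
  F : Fn W a L
  F' : Fn W a N
  ne : L ≠ N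

theorem Dbl.symm (D : Dbl x a W L N) : Dbl x a W N L := ⟨D.S, D.T, D.F', D.F, D.ne.symm⟩

theorem dbl_of (Wt : Typ G) (T3 : ThreeBal G) (T : TT x a L) (S : TT x a N) (F : Fn W a L)
    (ne : L ≠ N) : Dbl x a W L N := by
  have haa := sq_of_order T.inva
  -- an involution of `L`
  obtain ⟨A, hA, hA2, hA16⟩ := exists_A T.l34
  obtain ⟨u, hu, hu1, -⟩ := exists_ne (B := A) (by rw [hA16]; norm_num) 1
  have hou : orderOf u = 2 := orderOf_eq_prime (by rw [pow_two]; exact hA2 u hu) hu1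
  have huf : Fixes u N := S.comp.fixes_of_mem T.comp ne.symm (hA hu)
  have hua : u ≠ a := by
    rintro rfl
    exact hu1 (eq_one_of_l34 T.l34 (hA hu) (hA2 u hu) (fixes_self' T.comp.le))
  obtain ⟨W', F'⟩ := fn_of Wt T3 T.inva S.comp S.l34 hou hua (comm_c (T.comp.le (hA hu))) huf
  obtain ⟨B, hB, hB2, hB16⟩ := exists_A S.l34
  have hAC : A ≤ centralizer ({a} : Set G) := hA.trans T.comp.le
  have hBC : B ≤ centralizer ({a} : Set G) := hB.trans S.comp.le
  obtain ⟨o, ho, hc⟩ := exists_commuting (odd_card_core (centralizer ({a} : Set G)))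
    (isPGroup_of_el (el_of_sq hA2)) (isPGroup_of_el (el_of_sq hB2))
    (hAC.trans (le_normalizer_core _)) (hBC.trans (le_normalizer_core _)) fun b hb b' hb' =>
      T.comp.core_le_core (T.comp.comm_le_core S.comp ne
        (commutator_mem_commutator (hA hb) (hB hb'))).1
  have h1 : Wd A = Wd (cj o B) := A34.Wd_of_comm T3 hA2
    (fun b hb => sq_of_el (el_cj (el_of_sq hB2) _) hb) hA16 ((card_cj _ B).trans hB16) hc
  have h2 : W = W' := by
    rw [← F.wa A hA hA2 hA16, h1, ← cj_Wd, F'.wa B hB hB2 hB16]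
    exact mem_normalizer_iff_cj.mp (F'.cent (core_le _ ho))
  exact ⟨T, S, F, h2 ▸ F', ne⟩

/-- `N` fixes `L` -/
theorem Dbl.fix (D : Dbl x a W L N) (hc : c ∈ N) : Fixes c L := D.T.comp.fixes_of_mem D.S.comp D.ne hc

theorem Dbl.comm (D : Dbl x a W L N) (hc : c ∈ N) : c * a = a * c := comm_c (D.S.comp.le hc)

theorem Dbl.ne_a (D : Dbl x a W L N) (hc : c ∈ N) (oc : orderOf c = 2) : c ≠ a := by
  rintro rfl
  exact ne_one_of_order oc (eq_one_of_l34 D.S.l34 hc (sq_of_order oc) (fixes_self' D.S.comp.le))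

/-- an involution of `N ∩ C(x)` -/
theorem Dbl.exists_e (D : Dbl x a W L N) : ∃ e ∈ N, orderOf e = 2 ∧ e * x = x * e :=
  exists_inv34 D.S.l34 (sq_of_order D.S.invx) D.S.x_mem

/-- **`Pt` at the involutions of `N`** -/
theorem Dbl.pt (Wt : Typ G) (T3 : ThreeBal G) (D : Dbl x a W L N) (hr : r ∈ N) (or : orderOf r = 2) :
    Pt W L r := by
  obtain ⟨e, he, oe, hex⟩ := D.exists_e
  have h1 := pt_of Wt T3 D.T D.F oe (D.ne_a he oe) (D.comm he) hex (D.fix he)
  obtain ⟨l, hl, rfl⟩ := inv_conj34 D.S.l34 he hr oe or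
  exact h1.conj (D.F'.le_norm hl) (D.fix hl).1

/-- **`[L, O(M)] ≤ W`** -/
theorem Dbl.le_cw (Wt : Typ G) (T3 : ThreeBal G) (D : Dbl x a W L N) :
    L ≤ cw W (core (normalizer (W : Set G))) := by
  have hp : Fact (Nat.Prime 2) := ⟨Nat.prime_two⟩
  obtain ⟨M, hM⟩ : ∃ M, M = normalizer (W : Set G) := ⟨_, rfl⟩
  rw [← hM]
  -- a four-group of `N`
  obtain ⟨A, hA, hA2, hA16⟩ := exists_A D.S.l34
  obtain ⟨r, hr, hr1, -⟩ := exists_ne (B := A) (by rw [hA16]; norm_num) 1
  obtain ⟨s, hs, hs1, hsr⟩ := exists_ne (B := A) (by rw [hA16]; norm_num) r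
  have hAe := el_of_sq hA2
  have or : orderOf r = 2 := orderOf_eq_prime (by rw [pow_two]; exact hA2 r hr) hr1
  have os : orderOf s = 2 := orderOf_eq_prime (by rw [pow_two]; exact hA2 s hs) hs1
  have hrs : r * s = s * r := comm_of_el hAe hr hs
  obtain ⟨R, hR⟩ : ∃ R, R = zpowers r ⊔ zpowers s := ⟨_, rfl⟩
  have hR4 : Nat.card ↥R = 4 := hR ▸ card_four or os hsr.symm hrs
  have hRA : R ≤ A := by
    rw [hR]
    exact sup_le (zpowers_le.mpr hr) (zpowers_le.mpr hs)
  -- `J`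
  have hrC : r ∈ centralizer ({a} : Set G) := D.S.comp.le (hA hr)
  have hsC : s ∈ centralizer ({a} : Set G) := D.S.comp.le (hA hs)
  obtain ⟨h1, h2⟩ := isComp_cen D.T.comp hrC (sq_of_order or) (D.fix (hA hr))
  have hfs := D.fix (hA hs)
  have hsn : s ∈ normalizer (cen L r : Set G) := mem_normalizer_cen hfs.1 hrs.symm
  have hfs' : Fixes s (cen L r) := (fixes_iff_of_sup h2 hsn hfs.1).mpr hfs
  obtain ⟨h3, h4⟩ := isComp_cen h1 (Subgroup.mem_inf.mpr ⟨hsC, mem_c hrs.symm⟩) (sq_of_order os) hfs'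
  obtain ⟨J, hJ⟩ : ∃ J, J = cen (cen L r) s := ⟨_, rfl⟩
  rw [← hJ] at h3 h4
  have hcov : J ⊔ core L = L := Res.W1.NSt.sup_of_core h4 h2
  have hJL : J ≤ L := by
    rw [← hcov]
    exact le_sup_left
  have hJr : ∀ j ∈ J, j * r = r * j := fun j hj => comm_of_mem_cen (cen_le _ s (hJ ▸ hj))
  have hJs : ∀ j ∈ J, j * s = s * j := fun j hj => comm_of_mem_cen (hJ ▸ hj)
  have hJR : ∀ t ∈ R, J ≤ cen L t := by
    intro t ht
    rw [← h3.pElem_eq]
    refine PComponents.pElem_mono (le_inf hJL fun j hj => ?_)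
    have h5 : R ≤ centralizer ({j} : Set G) := by
      rw [hR]
      exact sup_le (zpowers_le.mpr (mem_c (hJr j hj).symm)) (zpowers_le.mpr (mem_c (hJs j hj).symm))
    exact mem_c (comm_c (h5 ht)).symm
  have hLM : L ≤ M := hM ▸ D.F.le_norm
  have hNM : N ≤ M := hM ▸ D.F'.le_norm
  -- `O(M) ≤ cw W J`
  have h5 : core M ≤ cw W J := by
    have hE := el_mono hAe hRA
    have hE1 : R ≠ ⊥ := by
      rintro h
      rw [h, card_bot] at hR4
      omega
    have hN2 : ¬ 2 ∣ Nat.card ↥(core M) := by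
      rw [← even_iff_two_dvd, Nat.not_even_iff_odd]
      exact odd_card_core M
    have hn : R ≤ normalizer (core M : Set G) := fun t ht => le_normalizer_core _ (hNM (hA (hRA ht)))
    rw [← Lib.CoprimeHyperplane.iSup_centralizer_hyperplane hE hE1 hN2 hn]
    refine iSup_le fun B => ?_
    have h2 : Nat.card ↥B.1 = 2 := by
      have := relIndex_mul_relIndex ⊥ B.1 R bot_le B.2.1
      rw [relIndex_bot_left, relIndex_bot_left, B.2.2, hR4] at this
      omega
    have h3 : B.1 ≠ ⊥ := by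
      rintro h
      rw [h, card_bot] at h2
      omega
    obtain ⟨⟨t, ht⟩, ht1'⟩ := Subgroup.ne_bot_iff_exists_ne_one.mp h3
    have ht1 : t ≠ 1 := fun h => ht1' (Subtype.ext h)
    have htR := B.2.1 ht
    have htN : t ∈ N := hA (hRA htR)
    have ot : orderOf t = 2 := orderOf_eq_prime (by rw [pow_two]; exact hA2 t (hRA htR)) ht1
    have hP := D.pt Wt T3 htN ot
    rintro o ⟨ho, hoB⟩
    have hoc : o ∈ centralizer ({t} : Set G) := mem_c (mem_centralizer_iff.mp hoB t ht).symm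
    have h4 : core M ⊓ centralizer ({t} : Set G) ≤ core (centralizer ({t} : Set G)) := by
      refine le_core inf_le_right ?_ ?_
      · intro g hg
        have e1 : g ∈ normalizer (core M : Set G) := le_normalizer_core _ (hM ▸ hP.fine hg)
        have e2 := le_normalizer (H := centralizer ({t} : Set G)) hg
        rw [mem_normalizer_iff_cj] at e1 e2 ⊢
        rw [cj_inf, e1, e2]
      · exact Odd.of_dvd_nat (odd_card_core _) (card_dvd_of_le inf_le_left)
    refine mem_cw.mpr ⟨hM ▸ core_le M ho, fun j hj => comm_symm ?_⟩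
    exact (mem_cw.mp (hP.ck (hJR t htR hj))).2 o (h4 (Subgroup.mem_inf.mpr ⟨ho, hoc⟩))
  have h6 : J ≤ cw W (core M) := fun j hj =>
    mem_cw.mpr ⟨hM ▸ hLM (hJL hj), fun o ho => comm_symm ((mem_cw.mp (h5 ho)).2 j hj)⟩
  refine D.T.comp.le_of_two fun g hg n hn => ?_
  obtain ⟨j, hj, hc⟩ := exists_mul_of_sup hcov hg
  refine mem_of_pow (c := j⁻¹ * g) (by group) (h6 hj) ?_ (odd_order_of_core hc) hn
  have hcM := hLM (core_le L hc)
  exact mem_normalizer_cw (hM ▸ hcM) (le_normalizer_core _ hcM)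

/-! ### the 2-components of `N(W)` -/

/-- `K = L O(K)` a 2-component of `N(W)`, `[L, O(N(W))] ≤ W` -/
structure Pc (W L K : Subgroup G) : Prop where
  gen : ∃ C, IsComp C L
  comp : IsComp (normalizer (W : Set G)) K
  cov : L ⊔ core K = K
  ck : L ≤ cw W (core (normalizer (W : Set G)))

theorem Pc.le (P : Pc W L K) : L ≤ K := by
  rw [← P.cov]
  exact le_sup_left

theorem Pc.leM (P : Pc W L K) : L ≤ normalizer (W : Set G) := P.le.trans P.comp.le

theorem Pc.cj (P : Pc W L K) {m : G} (hm : m ∈ normalizer (W : Set G)) :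
    Pc W (IntrinsicBasic.cj m L) (IntrinsicBasic.cj m K) where
  gen := by
    obtain ⟨C, hC⟩ := P.gen
    exact ⟨_, hC.cj m⟩
  comp := isComp_cj_of_mem P.comp hm
  cov := by
    rw [core_cj, ← cj_sup, P.cov]
  ck := by
    have h1 := cj_mono (g := m) P.ck
    rwa [mem_normalizer_iff_cj.mp (mem_normalizer_cw hm (le_normalizer_core _ hm))] at h1

theorem Pc.norm (P : Pc W L K) : core (normalizer (W : Set G)) ≤ normalizer ((L ⊔ W : Subgroup G) : Set G) := by
  refine le_normalizer_of_cj_le fun o ho => ?_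
  have e1 : IntrinsicBasic.cj o W = W := mem_normalizer_iff_cj.mp (core_le _ ho)
  rw [cj_sup, e1]
  refine sup_le ?_ le_sup_right
  rintro _ ⟨j, hj, rfl⟩
  change o * j * o⁻¹ ∈ L ⊔ W
  have e3 : o * j * o⁻¹ = ⁅j, o⁆⁻¹ * j := by rw [commutatorElement_def]; group
  rw [e3]
  exact mul_mem (mem_sup_right (inv_mem ((mem_cw.mp (P.ck hj)).2 o ho))) (mem_sup_left hj)

theorem Pc.le_sup (P : Pc W L K) (P' : Pc W L' K) : L' ≤ L ⊔ W := by
  obtain ⟨C, hC⟩ := P'.gen
  refine hC.le_of_two fun k hk n hn => ?_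
  obtain ⟨j, hj, hc⟩ := exists_mul_of_sup P.cov (P'.le hk)
  have hc' := P.comp.core_le_core hc
  exact mem_of_pow (c := j⁻¹ * k) (by group) (mem_sup_left hj) (P.norm hc') (odd_order_of_core hc) hn

theorem Pc.sup_eq (P : Pc W L K) (P' : Pc W L' K) : L ⊔ W = L' ⊔ W :=
  le_antisymm (sup_le (P'.le_sup P) le_sup_right) (sup_le (P.le_sup P') le_sup_right)

/-- **different germs commute** -/
theorem Pc.comm (P : Pc W L K) (P' : Pc W L' K') (hne : K ≠ K') : ⁅L ⊔ W, L' ⊔ W⁆ ≤ W := by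
  refine Res.W1.comm_sup_le P.leM P'.leM ?_
  obtain ⟨C, hC⟩ := P.gen
  have h3 : L ≤ cw W L' := by
    refine hC.le_of_two fun j hj n hn => ?_
    refine mem_cw.mpr ⟨P.leM hj, fun k hk => comm_symm ?_⟩
    have h2 : ⁅k, j⁆ ∈ core (normalizer (W : Set G)) :=
      P'.comp.core_le_core (P'.comp.comm_le_core P.comp hne.symm
        (commutator_mem_commutator (P'.le hk) (P.le hj))).1
    refine mem_of_conj (odd_card_core _) (core_le _) (fun j hj o ho => (mem_cw.mp (P.ck hj)).2 o ho) h2 hj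
      ?_ hn (k := k)
    rw [commutatorElement_def]
    group
  exact fun j hj k hk => (mem_cw.mp (h3 hj)).2 k hk

theorem Pc.eq_or (P : Pc W L K) (P' : Pc W L' K') (hne : L ⊔ W ≠ L' ⊔ W) : ⁅L ⊔ W, L' ⊔ W⁆ ≤ W := by
  refine P.comm P' ?_
  rintro rfl
  exact hne (P.sup_eq P')

/-! ### `K = L O(K)` -/

theorem cover (FA : U2.FOne.All.FAll.{u})
    (heK : ∀ (K : Type u) [Group K] [Finite K], Spor.IsoHe K → HF K) (hT : WorldL34 G) (h : MinCex G)
    (T3 : ThreeBal G) (hW1 : W ≠ ⊥) (T : TT x a L) (F : Fn W a L)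
    (hK : IsComp (normalizer (W : Set G)) K) (hLK : L ≤ K) : L ⊔ core K = K := by
  obtain ⟨E, hE, hEx, h9⟩ := Nine.nine T.toIsTriple T.l34
  have hxM : x ∈ normalizer (W : Set G) := F.cent (mem_c T.comm.symm)
  have hxK : x ∈ normalizer (K : Set G) := Res.W1.norm_of_le T.comp hK hLK hxM T.x_mem
  have Wt : Typ G := fun T => hT.types _ _ _ T
  -- some `y ∈ E` does not fix `K`
  obtain ⟨y, hy, hf⟩ : ∃ y ∈ E, ¬ Fixes y K := by
    by_contra hcon
    push Not at hcon
    have hbot : (E.subgroupOf L).map (QuotientGroup.mk' (oddCore ↥L)) = ⊥ := by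
      rw [eq_bot_iff]
      rintro _ ⟨⟨y, hyL⟩, hyE, rfl⟩
      rw [mem_bot]
      refine N2S.OneGlue.kfs.center Wt T.toIsTriple _ fun d => ?_
      obtain ⟨⟨l, hl⟩, rfl⟩ := QuotientGroup.mk_surjective d
      have h1 : ⁅y, l⁆ ∈ core L := by
        refine inf_core_le hLK (Subgroup.mem_inf.mpr ⟨?_, (hcon y hyE).2 l (hLK hl)⟩)
        rw [commutatorElement_def]
        exact mul_mem (mul_mem (mul_mem hyL hl) (inv_mem hyL)) (inv_mem hl)
      exact (commutator_mem_core_iff hyL hl).mp h1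
    rw [hbot, card_bot] at h9
    omega
  have hty := type34 FA heK hT h hK T.invx hxM hxK (hLK (hE hy)) (hEx hy) hf
    (Res.W1.NSt.card_lt h le_rfl le_normalizer (F.odd T3) hW1 hK)
  exact cover34 hK hLK T.l34 T.invx hxM hxK hE hEx h9 hty

/-! ### the reduction to the non-diagonal case -/

section nd

/-- the diagonal case -/
theorem of_diag (Wt : Typ G) (T3 : ThreeBal G) (D : Dbl x a W L N)
    (hK : IsComp (normalizer (W : Set G)) K) (hne : cj a K ≠ K) (hd : L = diag (normalizer (W : Set G)) K a) :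
    ∃ a' L' N' K₁ K₂, Dbl x a' W L' N' ∧ IsComp (normalizer (W : Set G)) K₁ ∧
      IsComp (normalizer (W : Set G)) K₂ ∧ L' ≤ K₁ ∧ N' ≤ K₂ := by
  obtain ⟨M, hM⟩ : ∃ M, M = normalizer (W : Set G) := ⟨_, rfl⟩
  have haa := sq_of_order D.T.inva
  have haW : a ∈ normalizer (W : Set G) := D.F.cent (mem_c rfl)
  have haM : a ∈ M := hM ▸ haW
  have hCM : centralizer ({a} : Set G) ≤ M := hM ▸ D.F.cent
  rw [← hM] at hK hd ⊢
  have hK' := isComp_cj_of_mem hK haM
  have hKaa : cj a (cj a K) = K := by rw [← cj_mul, haa, cj_one]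
  obtain ⟨e, he, oe, hex⟩ := D.exists_e
  have hee := sq_of_order oe
  have hea := D.comm he
  have heM : e ∈ M := hCM (D.S.comp.le he)
  -- `e` fixes `K`
  have hfK : Fixes e K := by
    have hN : IsComp (M ⊓ centralizer ({a} : Set G)) N := by
      rw [inf_eq_right.mpr hCM]
      exact D.S.comp
    obtain ⟨K₂, hK₂, -, h⟩ := McLLyComp.PumpT.exists_pump haM haa hN
    rcases h with ⟨h1, h2⟩ | ⟨h1, h2⟩
    · refine hK.fixes_of_mem hK₂ ?_ (h2 he)
      rintro rfl
      exact hne (mem_normalizer_iff_cj.mp h1)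
    · by_contra hf
      have hmk : IsMark M N K := ⟨hK, fun h => hf (h e he)⟩
      rcases eq_or_of_diag hK₂ haM haa h1 (le_of_eq h2) hmk with rfl | rfl
      · exact D.ne (hd.trans h2.symm)
      · apply D.ne
        have h3 := congrArg (cj a) h2
        rw [cj_diag, cj_eq_self_of_mem haM, mul_inv_cancel_right] at h3
        rw [hd, ← h3]
        exact mem_normalizer_iff_cj.mp (fixes_self' D.S.comp.le).1
  have hfK' : Fixes e (cj a K) := fixes_cj hea hfK
  -- the marker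
  obtain ⟨hJc, hJs⟩ := isComp_cen D.T.comp (mem_c hea) hee (D.fix he)
  have hJ : Mkr (cen L e) := Mkr.of_comp hJc
  have hJd : cen L e ≤ diag M K a := hd ▸ cen_le L e
  obtain ⟨N', S', F', hor⟩ := pump_w Wt T3 D.T D.F oe (D.ne_a he oe) hea hex (D.fix he)
  have hCeM : centralizer ({e} : Set G) ≤ M := hM ▸ F'.cent
  have haC : a ∈ centralizer ({e} : Set G) := mem_c hea.symm
  have hmk : IsMark (M ⊓ centralizer ({e} : Set G)) (cen L e) N' := by
    rw [inf_eq_right.mpr hCeM]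
    rcases hor with ⟨-, hle⟩ | ⟨hneN, hdN⟩
    · exact mark_of_le hJ F'.comp hle
    · exact mark_diag hJ F'.comp haC haa hneN (le_of_eq hdN)
  have hJM : cen L e ≤ M ⊓ centralizer ({e} : Set G) :=
    le_inf ((cen_le L e).trans (D.T.comp.le.trans hCM)) (cen_le_centralizer L e)
  obtain ⟨J', hJ', hor'⟩ := hmk.pump heM hee hJM
  have hJK : J' = K ∨ J' = cj a K := eq_or_of_diag hK haM haa hne hJd hJ'
  have heJ : cj e J' = J' := by
    rcases hJK with rfl | rfl
    · exact mem_normalizer_iff_cj.mp hfK.1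
    · exact mem_normalizer_iff_cj.mp hfK'.1
  have haJ : cj a J' ≠ J' := by
    rcases hJK with rfl | rfl
    · exact hne
    · rw [hKaa]
      exact hne.symm
  have hle : N' ≤ J' := by
    rcases hor' with ⟨-, h, -⟩ | ⟨h, -⟩
    · exact h
    · exact absurd heJ h
  have hle' : cj a N' ≤ cj a J' := cj_mono hle
  rcases hor with ⟨haN, -⟩ | ⟨hneN, -⟩
  · exfalso
    rw [mem_normalizer_iff_cj.mp haN] at hle'
    exact haJ (F'.comp.unique (isComp_cj_of_mem hJ'.comp haM) hJ'.comp hle' hle)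
  · have S'' : TT x e (cj a N') := by
      have h1 := S'.cj a
      rwa [D.T.comm, mul_inv_cancel_right, ← hea, mul_inv_cancel_right] at h1
    have F'' : Fn W e (cj a N') := by
      have h1 := F'.cj a
      rwa [mem_normalizer_iff_cj.mp haW, ← hea, mul_inv_cancel_right] at h1
    exact ⟨e, N', cj a N', J', cj a J', ⟨S', S'', F', F'', hneN.symm⟩, hJ'.comp,
      isComp_cj_of_mem hJ'.comp haM, hle, hle'⟩

/-- both 2-components in 2-components of `M` -/
theorem exists_nd (Wt : Typ G) (T3 : ThreeBal G) (D : Dbl x a W L N) :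
    ∃ a' L' N' K₁ K₂, Dbl x a' W L' N' ∧ IsComp (normalizer (W : Set G)) K₁ ∧
      IsComp (normalizer (W : Set G)) K₂ ∧ L' ≤ K₁ ∧ N' ≤ K₂ := by
  have haa := sq_of_order D.T.inva
  have haM : a ∈ normalizer (W : Set G) := D.F.cent (mem_c rfl)
  have hL : IsComp (normalizer (W : Set G) ⊓ centralizer ({a} : Set G)) L := by
    rw [inf_eq_right.mpr D.F.cent]
    exact D.T.comp
  have hN : IsComp (normalizer (W : Set G) ⊓ centralizer ({a} : Set G)) N := by
    rw [inf_eq_right.mpr D.F.cent]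
    exact D.S.comp
  obtain ⟨K₁, hK₁, -, h1⟩ := McLLyComp.PumpT.exists_pump haM haa hL
  obtain ⟨K₂, hK₂, -, h2⟩ := McLLyComp.PumpT.exists_pump haM haa hN
  rcases h1 with ⟨-, h1⟩ | ⟨h1, h1'⟩
  · rcases h2 with ⟨-, h2⟩ | ⟨h2, h2'⟩
    · exact ⟨a, L, N, K₁, K₂, D, hK₁, hK₂, h1, h2⟩
    · exact of_diag Wt T3 D.symm hK₂ h2 h2'
  · exact of_diag Wt T3 D hK₁ h1 h1'

end nd

/-! ### the family -/

/-- the germs are different -/
theorem Dbl.ne_sup (T3 : ThreeBal G) (D : Dbl x a W L N) : L ⊔ W ≠ N ⊔ W := by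
  intro h
  have hNH : N ≤ L ⊔ W := h ▸ le_sup_left
  have h1 : ⁅N, N⁆ ≤ core (L ⊔ W) := by
    rw [Subgroup.commutator_le]
    intro n hn n' hn'
    have hf := D.fix hn
    exact ((fixes_iff_of_sup (D.F.sup_core T3) hf.1 (le_normalizer (hNH hn))).mp hf).2 n' (hNH hn')
  rw [D.S.comp.perfect] at h1
  exact D.S.comp.not_odd (odd_card_core _) h1

theorem Dbl.many (Wt : Typ G) (T3 : ThreeBal G) (D : Dbl x a W L N) {K₁ K₂ : Subgroup G} (P₁ : Pc W L K₁)
    (P₂ : Pc W N K₂) : Many W (orb W (L ⊔ W) ∪ orb W (N ⊔ W)) := by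
  have hrep : ∀ X ∈ orb W (L ⊔ W) ∪ orb W (N ⊔ W), ∃ L' K', Pc W L' K' ∧ X = L' ⊔ W := by
    rintro X (⟨m, hm, rfl⟩ | ⟨m, hm, rfl⟩)
    · exact ⟨_, _, P₁.cj hm, by rw [cj_sup, mem_normalizer_iff_cj.mp hm]⟩
    · exact ⟨_, _, P₂.cj hm, by rw [cj_sup, mem_normalizer_iff_cj.mp hm]⟩
  have hgerm : ∀ X ∈ orb W (L ⊔ W) ∪ orb W (N ⊔ W), Germ W X := by
    rintro X (⟨m, hm, rfl⟩ | ⟨m, hm, rfl⟩)
    · have h1 := (D.F.germ T3).conj m
      rwa [mem_normalizer_iff_cj.mp hm] at h1
    · have h1 := (D.F'.germ T3).conj m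
      rwa [mem_normalizer_iff_cj.mp hm] at h1
  have hfine : ∀ X ∈ orb W (L ⊔ W) ∪ orb W (N ⊔ W), ∃ u ∈ X, orderOf u = 2 ∧ Fine W u := by
    have key : ∀ {u m : G} {H : Subgroup G}, u ∈ H → orderOf u = 2 → Fine W u →
        m ∈ normalizer (W : Set G) → ∃ u ∈ cj m H, orderOf u = 2 ∧ Fine W u := by
      intro u m H hu ou hf hm
      refine ⟨m * u * m⁻¹, conj_mem_cj hu, ?_, hf.conj_mem hm⟩
      have := (MulAut.conj m).orderOf_eq u
      rw [MulAut.conj_apply] at this
      rw [this, ou]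
    rintro X (⟨m, hm, rfl⟩ | ⟨m, hm, rfl⟩)
    · obtain ⟨e, he, oe, -⟩ := D.symm.exists_e
      exact key (mem_sup_left he) oe (D.symm.pt Wt T3 he oe).fine hm
    · obtain ⟨e, he, oe, -⟩ := D.exists_e
      exact key (mem_sup_left he) oe (D.pt Wt T3 he oe).fine hm
  refine { germ := hgerm, conj := ?_, comm := ?_, two := ?_, fine := ?_ }
  · rintro g hg X (⟨m, hm, rfl⟩ | ⟨m, hm, rfl⟩)
    · exact Or.inl ⟨g * m, mul_mem hg hm, (cj_mul g m _).symm⟩
    · exact Or.inr ⟨g * m, mul_mem hg hm, (cj_mul g m _).symm⟩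
  · intro X hX Y hY hne
    obtain ⟨L₁, K₁', Q₁, rfl⟩ := hrep X hX
    obtain ⟨L₂, K₂', Q₂, rfl⟩ := hrep Y hY
    exact Q₁.eq_or Q₂ hne
  · exact ⟨_, Or.inl mem_orb_self, _, Or.inr mem_orb_self, D.ne_sup T3⟩
  · intro X hX t ht htt ht1
    obtain ⟨u, hu, ou, hf⟩ := hfine X hX
    have S := hgerm X hX
    obtain ⟨l, hl, rfl⟩ := inv_conj34 S.l34 hu ht ou (orderOf_eq_prime (by rw [pow_two]; exact htt) ht1)
    exact hf.conj_mem (S.nW hl)

variable (FA : U2.FOne.All.FAll.{u})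
    (heK : ∀ (K : Type u) [Group K] [Finite K], Spor.IsoHe K → HF K) (hT : WorldL34 G) (h : MinCex G)
    (T3 : ThreeBal G) (hW1 : W ≠ ⊥)

include FA heK hT h T3 hW1

/-- **two triples**: at least two germs over `W` -/
theorem many_of_dbl (T : TT x a L) (S : TT x a N) (F : Fn W a L) (ne : L ≠ N) : ∃ 𝓗, Many W 𝓗 := by
  have Wt : Typ G := fun T => hT.types _ _ _ T
  obtain ⟨a', L', N', K₁, K₂, D, hK₁, hK₂, h1, h2⟩ := exists_nd Wt T3 (dbl_of Wt T3 T S F ne)
  refine ⟨_, D.many Wt T3 (K₁ := K₁) (K₂ := K₂) ?_ ?_⟩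
  · exact ⟨⟨_, D.T.comp⟩, hK₁, cover FA heK hT h T3 hW1 D.T D.F hK₁ h1, D.le_cw Wt T3⟩
  · exact ⟨⟨_, D.S.comp⟩, hK₂, cover FA heK hT h T3 hW1 D.S D.F' hK₂ h2, D.symm.le_cw Wt T3⟩

end Cfsg.Agent.UGT.N2W.CaseA
end

-- part: UGT/N2W/CommR
section
set_option linter.all false
open scoped Cfsg.Agent.FastGrp

/-!
# STEP 1 over a four-group (N2, cores, bb #17697 (3)), and `Parts` from (5)

* `le_cw_of_four`: `[L, O(N(W))] ≤ W` from a four-group `R` of fine involutions.
* `RCfg.pc`: `K = L O(K)`, `[L, O(N(W))] ≤ W` for the 2-component `K` of `N(W)` containing `L`.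
* `comm`: the germs `L W`, `(L W)^m` commute modulo `W` or are equal.
* `parts`: `Parts G` from (5).
-/

set_option autoImplicit false
set_option linter.unusedSectionVars false

open Cfsg Subgroup
open Cfsg.Agent.SignalizersComponents Cfsg.Agent.Lib
open Cfsg.Agent.SignalizersComponents.IntrinsicBasic
open Cfsg.Agent.Intrinsic.Basic Cfsg.Agent.Intrinsic.Cen Cfsg.Agent.Intrinsic.Diag
open Cfsg.Agent.McLLyComp.Act
open Cfsg.Agent.UGT.Triple Cfsg.Agent.UGT.PumpGen Cfsg.Agent.UGT.TriBase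
open Cfsg.Agent.UGT.Iface (Bar IsL34 MinCex)
open Cfsg.Agent.UGT.Nodes (WorldL34)
open Cfsg.Agent.UGT.NodeHeG (HF)
open Cfsg.Agent.UGT.Res.Base Cfsg.Agent.UGT.Res.Abel Cfsg.Agent.UGT.Res.CoreFree
open Cfsg.Agent.UGT.Res.WFun (el_of_sq el_mono)
open Cfsg.Agent.UGT.Res.WPair (cj_sup)
open Cfsg.Agent.UGT.Res.W1 (cw mem_cw comm_symm)
open Cfsg.Agent.UGT.N2S (TT Typ)
open scoped commutatorElement

namespace Cfsg.Agent.UGT.N2W.CommR

open Fun Entr CaseA

universe u

variable {G : Type u} [Group G] [Finite G] {W L K J R H : Subgroup G} {x a t : G}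

/-- **`[L, O(M)] ≤ W`** -/
theorem le_cw_of_four (hL : IsComp H L) (hLM : L ≤ normalizer (W : Set G)) (hR4 : Nat.card ↥R = 4)
    (hR2 : ∀ r ∈ R, r * r = 1) (hRM : R ≤ normalizer (W : Set G)) (hcov : J ⊔ core L = L)
    (fine : ∀ r ∈ R, r ≠ 1 → Fine W r)
    (ck : ∀ r ∈ R, r ≠ 1 → J ≤ cw W (core (centralizer ({r} : Set G)))) :
    L ≤ cw W (core (normalizer (W : Set G))) := by
  have hp : Fact (Nat.Prime 2) := ⟨Nat.prime_two⟩
  obtain ⟨M, hM⟩ : ∃ M, M = normalizer (W : Set G) := ⟨_, rfl⟩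
  rw [← hM] at hLM hRM ⊢
  have hJL : J ≤ L := by
    rw [← hcov]
    exact le_sup_left
  -- `O(M) ≤ cw W J`
  have h5 : core M ≤ cw W J := by
    have hE := el_of_sq hR2
    have hE1 : R ≠ ⊥ := by
      rintro h
      rw [h, card_bot] at hR4
      omega
    have hN2 : ¬ 2 ∣ Nat.card ↥(core M) := by
      rw [← even_iff_two_dvd, Nat.not_even_iff_odd]
      exact odd_card_core M
    have hn : R ≤ normalizer (core M : Set G) := fun t ht => le_normalizer_core _ (hRM ht)
    rw [← Lib.CoprimeHyperplane.iSup_centralizer_hyperplane hE hE1 hN2 hn]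
    refine iSup_le fun B => ?_
    have h2 : Nat.card ↥B.1 = 2 := by
      have := relIndex_mul_relIndex ⊥ B.1 R bot_le B.2.1
      rw [relIndex_bot_left, relIndex_bot_left, B.2.2, hR4] at this
      omega
    have h3 : B.1 ≠ ⊥ := by
      rintro h
      rw [h, card_bot] at h2
      omega
    obtain ⟨⟨t, ht⟩, ht1'⟩ := Subgroup.ne_bot_iff_exists_ne_one.mp h3
    have ht1 : t ≠ 1 := fun h => ht1' (Subtype.ext h)
    have htR := B.2.1 ht
    have hf := fine t htR ht1
    rintro o ⟨ho, hoB⟩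
    have hoc : o ∈ centralizer ({t} : Set G) := mem_c (mem_centralizer_iff.mp hoB t ht).symm
    have h4 : core M ⊓ centralizer ({t} : Set G) ≤ core (centralizer ({t} : Set G)) := by
      refine le_core inf_le_right ?_ ?_
      · intro g hg
        have e1 : g ∈ normalizer (core M : Set G) := le_normalizer_core _ (hM ▸ hf hg)
        have e2 := le_normalizer (H := centralizer ({t} : Set G)) hg
        rw [mem_normalizer_iff_cj] at e1 e2 ⊢
        rw [cj_inf, e1, e2]
      · exact Odd.of_dvd_nat (odd_card_core _) (card_dvd_of_le inf_le_left)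
    refine mem_cw.mpr ⟨hM ▸ core_le M ho, fun j hj => comm_symm ?_⟩
    exact (mem_cw.mp (ck t htR ht1 hj)).2 o (h4 (Subgroup.mem_inf.mpr ⟨ho, hoc⟩))
  have h6 : J ≤ cw W (core M) := fun j hj =>
    mem_cw.mpr ⟨hM ▸ hLM (hJL hj), fun o ho => comm_symm ((mem_cw.mp (h5 ho)).2 j hj)⟩
  refine hL.le_of_two fun g hg n hn => ?_
  obtain ⟨j, hj, hc⟩ := exists_mul_of_sup hcov hg
  refine mem_of_pow (c := j⁻¹ * g) (by group) (h6 hj) ?_ (odd_order_of_core hc) hn
  have hcM := hLM (core_le L hc)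
  exact mem_normalizer_cw (hM ▸ hcM) (le_normalizer_core _ hcM)

variable (FA : U2.FOne.All.FAll.{u})
    (heK : ∀ (K : Type u) [Group K] [Finite K], Spor.IsoHe K → HF K) (hT : WorldL34 G) (h : MinCex G)
    (T3 : ThreeBal G)

include FA heK hT h T3

/-- **STEP 1** -/
theorem pc {Lr : G → Subgroup G} (C : RCfg x a t L W J Lr) (hW1 : W ≠ ⊥)
    (hK : IsComp (normalizer (W : Set G)) K) (hLK : L ≤ K) : Pc W L K where
  gen := ⟨_, C.T.comp⟩
  comp := hK
  cov := CaseA.cover FA heK hT h T3 hW1 C.T C.Fa hK hLK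
  ck := by
    refine le_cw_of_four (R := zpowers a ⊔ zpowers t) (J := J) C.T.comp C.Fa.le_norm C.card C.sq ?_ ?_
      (fun r hr h1 => (C.fn r hr h1).cent) fun r hr h1 => ?_
    · intro r hr
      by_cases h1 : r = 1
      · rw [h1]
        exact one_mem _
      · exact (C.fn r hr h1).cent (mem_c rfl)
    · have h1 := C.sup a C.haR (ne_one_of_order C.T.inva)
      rwa [C.La] at h1
    · have h2 : J ≤ Lr r := by
        rw [← C.sup r hr h1]
        exact le_sup_left
      exact h2.trans (le_cw_of_fn (C.fn r hr h1))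

/-- **STEP 1**: `comm` -/
theorem comm {Lr : G → Subgroup G} (C : RCfg x a t L W J Lr) (hW1 : W ≠ ⊥) :
    ∀ m ∈ normalizer (W : Set G), cj m (L ⊔ W) = L ⊔ W ∨ ⁅L ⊔ W, cj m (L ⊔ W)⁆ ≤ W := by
  intro m hm
  obtain ⟨K, hK, hLK, -⟩ := C.exists_comp
  have P := pc FA heK hT h T3 C hW1 hK hLK
  have P' := P.cj hm
  rw [cj_sup, mem_normalizer_iff_cj.mp hm]
  by_cases he : L ⊔ W = cj m L ⊔ W
  · exact Or.inl he.symm
  · exact Or.inr (P.eq_or P' he)

/-- **`Parts G` from (5)** -/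
theorem parts (five : ∀ {W : Subgroup G} {𝓗 : Set (Subgroup G)}, Many W 𝓗 → W ≠ ⊥ → False) : Parts G where
  comm C hW1 := comm FA heK hT h T3 C hW1
  five M hW := five M hW
  caseA T S ne F hW1 := CaseA.many_of_dbl FA heK hT h T3 hW1 T S F ne

end Cfsg.Agent.UGT.N2W.CommR
end

-- part: UGT/N2S/PairBase
section
set_option linter.all false
open scoped Cfsg.Agent.FastGrp

/-!
# `~`-pairs of type `L₃(4)`: the input of the block files

* `Mem34 L`: `(x, a, L)` is a triple of type `L₃(4)`, `O(L) = 1`. `Mem34.t2`: `BL.T2 L`.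
* `Mems34 SS`: the hypotheses on `SS`; `Mems34.base : Blk.Base SS`; `Mems34.sys : BL.Sys SS` if commuting involutions
  are in commuting members (`Ad SS`).
* `false_of_pair34`, `world_of_ad`: no `TwoPair.Pair Q34 x e N N'`.
-/

set_option autoImplicit false

open Cfsg Subgroup
open Cfsg.Agent.SignalizersComponents
open Cfsg.Agent.SignalizersComponents.IntrinsicBasic
open Cfsg.Agent.Intrinsic.Basic
open Cfsg.Agent.McLLyComp.Act
open Cfsg.Agent.UGT.Triple Cfsg.Agent.UGT.TriBase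
open Cfsg.Agent.UGT.Iface (Bar IsL34)
open Cfsg.Agent.UGT.LTF.Defs (FT)
open Cfsg.Agent.UGT.Res.Hon (CFX)
open Cfsg.Agent.UGT.N2S.OneOut
open Cfsg.Agent.UGT.Blk (Rel Base)
open Cfsg.Agent.UGT.BL (T2 Iv Cm)
open Cfsg.Agent.LThreeFour (Dat)
open Cfsg.Agent.SporadicA.FieldFour (F4)

namespace Cfsg.Agent.UGT.N2S.PairBase

universe u

section facts

variable {D : Type*} [Group D]

/-- a perfect subgroup of a solvable subgroup is trivial -/
theorem bot_of_solv {C J : Subgroup D} (hC : Group.IsSolvable ↥C) (hJC : J ≤ C) (hJ : J ≤ ⁅J, J⁆) : J = ⊥ := by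
  obtain ⟨n, hn⟩ := hC.solvable
  have h1 : ∀ k : ℕ, J ≤ (derivedSeries ↥C k).map C.subtype := by
    intro k
    induction k with
    | zero =>
      rw [derivedSeries_zero, ← MonoidHom.range_eq_map, Subgroup.range_subtype]
      exact hJC
    | succ k ih =>
      rw [derivedSeries_succ, map_commutator]
      exact hJ.trans (commutator_mono ih ih)
  have h2 := h1 n
  rw [hn, Subgroup.map_bot] at h2
  exact le_bot_iff.mp h2

theorem t2_of_ft {ξ : MulAut D} (F : FT ξ) (A : Dat D) : T2 D where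
  sim := F.simp
  nab h := by
    have := F.simp
    obtain ⟨x, hx⟩ := exists_ne (1 : D)
    apply hx
    apply F.cl
    ext y
    rw [MulAut.conj_apply, MulAut.one_apply, h x y, mul_inv_cancel_right]
  inv := ⟨A.x 0 2 1, A.x_sq 0 2 (by decide) 1, fun h => by
    rw [← A.el_x02, A.el_eq_one] at h
    exact absurd (congrArg (fun p => p.c) h) (by decide)⟩
  four t h1 h2 := four_of A h1 h2
  solv J t h1 h2 hJ hf := by
    refine bot_of_solv (F.sols t h1 h2) (fun β hβ => ?_) hJ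
    rw [mem_centralizer_singleton_iff]
    ext y
    simp only [MulAut.mul_apply, MulAut.conj_apply, map_mul, map_inv, hf β hβ]

end facts

variable {G : Type u} [Group G]

/-- a triple component of type `L₃(4)` with trivial core -/
def Mem34 (L : Subgroup G) : Prop := ∃ x a : G, TT x a L ∧ core L = ⊥

theorem Mem34.cj {L : Subgroup G} (h : Mem34 L) (g : G) : Mem34 (IntrinsicBasic.cj g L) := by
  obtain ⟨x, a, T, hc⟩ := h
  exact ⟨_, _, T.cj g, by rw [core_cj, hc, IntrinsicBasic.cj, Subgroup.map_bot]⟩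

theorem Mem34.dat {L : Subgroup G} (h : Mem34 L) : Nonempty (Dat ↥L) := by
  obtain ⟨x, a, T, hc⟩ := h
  exact LSup.exists_dat (isL34_self T hc)

variable [Finite G]

theorem Mem34.t2 {L : Subgroup G} (h : Mem34 L) : T2 ↥L := by
  obtain ⟨A⟩ := h.dat
  obtain ⟨x, a, T, hc⟩ := h
  obtain ⟨ξ, -, F, -⟩ := OneGlue.kfs.honest T hc
  exact t2_of_ft F A

/-- the hypotheses -/
structure Mems34 (SS : Set (Subgroup G)) : Prop where
  cj : ∀ L ∈ SS, ∀ g : G, IntrinsicBasic.cj g L ∈ SS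
  part : ∀ L ∈ SS, ∃ P ∈ SS, Rel ⊤ L P
  mem : ∀ L ∈ SS, Mem34 L

/-- members with commuting involutions commute -/
def Ad (SS : Set (Subgroup G)) : Prop :=
  ∀ L ∈ SS, ∀ K ∈ SS, ∀ t u, Iv L t → Iv K u → t * u = u * t → L = K ∨ Cm L K

variable {SS : Set (Subgroup G)}

theorem Mems34.base (M : Mems34 SS) : Base SS where
  cj_mem := M.cj
  simple L hL := (M.mem L hL).t2.sim
  perfect L hL := by
    obtain ⟨x, a, T, -⟩ := M.mem L hL
    exact T.comp.perfect
  even L hL := by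
    obtain ⟨t, ht⟩ := (M.mem L hL).t2.exists_iv
    exact ⟨t, ht.mem, ht.ord⟩
  conj2 L hL t ht u hu hto huo := by
    obtain ⟨A⟩ := (M.mem L hL).dat
    obtain ⟨g, hg⟩ := cls_of A (y := ⟨t, ht⟩) (z := ⟨u, hu⟩) (Subtype.ext (sq_of_order hto))
      (fun h => ne_one_of_order hto (congrArg Subtype.val h)) (Subtype.ext (sq_of_order huo))
      (fun h => ne_one_of_order huo (congrArg Subtype.val h))
    exact ⟨g, g.2, congrArg Subtype.val hg⟩
  solv L hL t ht hto D hD hn hc := by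
    have h1 := (M.mem L hL).t2.cm_of_perfect hD.ge hn ⟨ht, sq_of_order hto, ne_one_of_order hto⟩ hc
    exact BL.cm_iff.1 h1
  part := M.part

/-- the input of Theorem BL -/
theorem Mems34.sys (M : Mems34 SS) (hne : SS.Nonempty) (ad : Ad SS) : BL.Sys SS where
  conj g L hL := M.cj L hL g
  ne := hne
  ty L hL := (M.mem L hL).t2
  b1 L hL t ht c hc := M.base.cenle hL ht.mem ht.ord (mem_c hc)
  ad := ad
  m L hL := by
    obtain ⟨K, hK, h1⟩ := M.part L hL
    exact ⟨K, hK, BL.P.of_rel h1⟩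

omit [Finite G] in
theorem mems_of_pair {L P : Subgroup G} (h : Rel ⊤ L P) (hL : Mem34 L) (hP : Mem34 P) :
    Mems34 (Blk.Top.SS₂ L P) := by
  refine ⟨?_, ?_, ?_⟩
  · rintro K ⟨g, hg⟩ k
    refine ⟨k * g, ?_⟩
    rcases hg with rfl | rfl
    · left; rw [cj_mul]
    · right; rw [cj_mul]
  · rintro K ⟨g, rfl | rfl⟩
    · exact ⟨_, ⟨g, Or.inr rfl⟩, h.cj g⟩
    · exact ⟨_, ⟨g, Or.inl rfl⟩, (h.cj g).symm⟩
  · rintro K ⟨g, rfl | rfl⟩
    · exact hL.cj g
    · exact hP.cj g

section final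

variable {X : Subgroup G} (hX : IsSimpleGroup ↥X) (h2 : ∀ {g h : G}, g ∉ X → h ∉ X → g * h ∈ X)
  (hA : ∀ SS : Set (Subgroup G), Mems34 SS → Ad SS)

include hX h2 hA

theorem false_of_rel34 {L P : Subgroup G} (h : Rel ⊤ L P) (hL : Mem34 L) (hP : Mem34 P) : False := by
  have hle : ∀ {L : Subgroup G}, Mem34 L → L ≤ X := by
    rintro L ⟨x, a, T, -⟩
    exact Blk.le_of_two T.comp.perfect fun x _ y _ hx hy => h2 hx hy
  have M := mems_of_pair h hL hP
  exact Blk.TopEnd.false_of_sys hX (M.sys ⟨L, 1, Or.inl (cj_one L).symm⟩ (hA _ M))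
    ⟨1, Or.inl (cj_one L).symm⟩ ⟨1, Or.inr (cj_one P).symm⟩ (BL.P.of_rel h) (hle hL) (hle hP)

/-- **no `~`-pair of type `L₃(4)`** -/
theorem false_of_pair34 (x e : G) (N N' : Subgroup G) : ¬ Res.TwoPair.Pair Q34 x e N N' := fun P =>
  false_of_rel34 hX h2 hA (Res.TwoSup.Pair.rel P) ⟨x, e, ⟨P.T.toIsTriple, P.T.q⟩, P.bot⟩
    ⟨x, e, ⟨P.T'.toIsTriple, P.T'.q⟩, P.bot'⟩

end final

end Cfsg.Agent.UGT.N2S.PairBase
end

-- part: UGT/N2S/PairEnd
section
set_option linter.all false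
open scoped Cfsg.Agent.FastGrp

/-!
# No `~`-pairs of type `L₃(4)`: the world of the triples of type `L₃(4)`, `x ∉ X`

`BL34.noAdj_comm` is the input `Ad SS` of `PairBase`.
-/

set_option autoImplicit false

open Cfsg Subgroup
open Cfsg.Agent.SignalizersComponents
open Cfsg.Agent.Intrinsic.Basic
open Cfsg.Agent.UGT.Triple Cfsg.Agent.UGT.TriBase
open Cfsg.Agent.UGT.Res.Hon (CFX)
open Cfsg.Agent.UGT.N2S.OneOut
open Cfsg.Agent.UGT.N2S.PairBase
open Cfsg.Agent.UGT.BL (Iv Cm)

namespace Cfsg.Agent.UGT.N2S.PairEnd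

universe u

variable {G : Type u} [Group G] [Finite G]

omit [Finite G] in
theorem ord_of_iv {L : Subgroup G} {t : G} (h : Iv L t) : orderOf t = 2 :=
  orderOf_eq_prime (by rw [pow_two]; exact h.sq) h.ne

/-- **commuting involutions are in commuting members** -/
theorem ad34 {SS : Set (Subgroup G)} (M : Mems34 SS) : Ad SS := by
  intro L hL K hK t u ht hu h
  have F : ∀ L ∈ SS, BL34.KL ↥L := by
    intro L hL
    obtain ⟨x, a, T, hc⟩ := M.mem L hL
    exact BL34.kl_of (isL34_self T hc)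
  rcases BL34.noAdj_comm M.base F hL hK ht.mem hu.mem (ord_of_iv ht) (ord_of_iv hu) h with h1 | h1
  · exact Or.inl h1
  · exact Or.inr (BL.cm_iff.2 (Blk.comm_iff.1 h1))

section

variable {X : Subgroup G} (hX : IsSimpleGroup ↥X)

include hX

/-- **no `~`-pair of type `L₃(4)`** -/
theorem false_of_pair (h2 : ∀ {g h : G}, g ∉ X → h ∉ X → g * h ∈ X) (x e : G) (N N' : Subgroup G) :
    ¬ Res.TwoPair.Pair Q34 x e N N' :=
  false_of_pair34 hX h2 (fun _ M => ad34 M) x e N N'

end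

end Cfsg.Agent.UGT.N2S.PairEnd
end

-- part: UGT/N2W/HonIn
section
prune_inst 0x200000000000100000180000000000000000000000000000000000000000000020050000004000100010805020008000004400000028000000008800000000000400020000401000000000400000000000000000000000000000000000000000000000000
set_option linter.all false
open scoped Cfsg.Agent.FastGrp

/-!
# The honest configuration for `L₃(4)`, `x ∈ X = G`, `W = 1`

* `WI G`: the types, `O(L) = 1` and `[O(C(a)), L] = 1` for all triples `(x, a, L)` of type `L₃(4)`, and at most one `L`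
  for each pair `(x, a)`.
* `worldC`: the world `TwoCore.World G Q34`. `one_of`: the field `one` from the others if `G` is simple.
* `HonI x L`: `(x, t, L)` is a triple of type `L₃(4)` for all involutions `t` of `C(L) ∩ C(x)`, and there is a
  four-group of them.
* `qgrp`, `pin`: the hypotheses of `ThEP.PIn`. `WI.false_of`: the contradiction.
-/

set_option autoImplicit false
set_option linter.unusedSectionVars false

open Cfsg Subgroup
open Cfsg.Agent.SignalizersComponents Cfsg.Agent.Lib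
open Cfsg.Agent.SignalizersComponents.IntrinsicBasic
open Cfsg.Agent.SignalizersComponents.PLayerAut
open Cfsg.Agent.Intrinsic.Basic Cfsg.Agent.Intrinsic.Cen Cfsg.Agent.Intrinsic.Diag
open Cfsg.Agent.McLLyComp.Act
open Cfsg.Agent.UGT.Triple Cfsg.Agent.UGT.TriBase Cfsg.Agent.UGT.Res.Base
open Cfsg.Agent.UGT.Iface (Bar IsL2 IsL34 IsAltOdd)
open Cfsg.Agent.UGT.LTF.Defs
open Cfsg.Agent.UGT.LTF.Basics (img mem_img img_ne exists_inv)
open Cfsg.Agent.UGT.Res.Hon (exists_P isT_conj)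
open Cfsg.Agent.UGT.Res.TwoPair (Tri)
open Cfsg.Agent.UGT.ThE.Base (IsT comm_of_mem L_conj L_conj' K_le_M K_conj)
open Cfsg.Agent.UGT.ThEL34 (Acts exists_acts acts_one_iff acts_one acts_of_mem acts_coe acts_norm)
open Cfsg.Agent.UGT.N2S Cfsg.Agent.UGT.N2S.OneOut
open scoped commutatorElement

namespace Cfsg.Agent.UGT.N2W.HonIn

universe u

variable {G : Type u} [Group G]

/-- The world. -/
structure WI (G : Type u) [Group G] [Finite G] : Prop where
  typ : Typ G
  hon : ∀ {x a : G} {L : Subgroup G}, TT x a L → core L = ⊥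
  cen : ∀ {x a : G} {L : Subgroup G}, TT x a L → core (centralizer ({a} : Set G)) ≤ centralizer (L : Set G)
  one : ∀ {x a : G} {L L' : Subgroup G}, IsTriple x a L → IsTriple x a L' → IsL34 (Bar L) →
    IsL34 (Bar L') → L = L'

variable [Finite G]

/-! ### at most one component -/

section one

/-- two involutions of `L` are conjugate in `L` -/
theorem conj34' {L : Subgroup G} (h34 : IsL34 (Bar L)) {f g : G} (hf : f ∈ L) (hg : g ∈ L)
    (hfo : orderOf f = 2) (hgo : orderOf g = 2) : ∃ l ∈ L, l * f * l⁻¹ = g := by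
  obtain ⟨A⟩ := LSup.exists_dat h34
  obtain ⟨l, hl⟩ := cls_of A (bar_sq hf (sq_of_order hfo)) (bar_ne hf hfo)
    (bar_sq hg (sq_of_order hgo)) (bar_ne hg hgo)
  obtain ⟨⟨l, hlL⟩, rfl⟩ := QuotientGroup.mk_surjective l
  have h1 : (QuotientGroup.mk ⟨l * f * l⁻¹, mul_mem (mul_mem hlL hf) (inv_mem hlL)⟩ : Bar L) =
      QuotientGroup.mk ⟨g, hg⟩ := hl
  have hff := sq_of_order hfo
  have hgg := sq_of_order hgo
  have h2 : l * f * l⁻¹ * (l * f * l⁻¹) = 1 := by
    calc l * f * l⁻¹ * (l * f * l⁻¹) = l * (f * f) * l⁻¹ := by group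
      _ = 1 := by rw [hff]; group
  have h3 : l * f * l⁻¹ * g ∈ core L := by
    have h4 := (mk_eq_iff (mul_mem (mul_mem hlL hf) (inv_mem hlL)) hg).mp h1
    have h5 : (l * f * l⁻¹)⁻¹ * g = l * f * l⁻¹ * g := by rw [inv_eq_of_mul_eq_one_left h2]
    rwa [h5] at h4
  obtain ⟨w, hw, h6⟩ := SL.conj_of_coset (odd_card_core L) h2 hgg h3
  refine ⟨w * l, mul_mem (core_le L hw) hlL, ?_⟩
  rw [← h6]
  group

/-- the world of the triples of type `L₃(4)`, no hypothesis on the cores -/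
theorem worldC (W : Typ G) : Res.TwoCore.World G Q34 where
  Qcj g h := q34_cj g h
  ex {x a L} T := by
    obtain ⟨e, he, ho, hc⟩ := LTF.Basics.exists_inv (N := L) (LTF.Basics.isPGroup_zpowers T.invx)
      (zpowers_le.mpr T.x_mem) T.comp.even
    exact ⟨e, he, ho, (hc x (mem_zpowers x)).symm⟩
  four T hs ho := exists_four34 T.q hs ho
  simp T hl hll hf := simp34 T.q hl hll hf
  pump T hc hca hcx hf := by
    obtain ⟨N, S, hq, hor⟩ := OneGlue.p34 OneGlue.kfs W T.toIsTriple T.q hc hca hcx hf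
    exact ⟨N, ⟨S, hq⟩, hor⟩
  conj T hf hg hfo hgo := conj34' T.q hf hg hfo hgo

/-- distinct 2-components of type `L₃(4)` of triples commute if they are honest -/
theorem comm_of_triples {x e : G} {N N' : Subgroup G} (hN : core N = ⊥) (T : IsTriple x e N) (T' : IsTriple x e N')
    (hne : N ≠ N') {n n' : G} (hn : n ∈ N) (hn' : n' ∈ N') : n * n' = n' * n := by
  have h1 := (T.comp.comm_le_core T'.comp hne) (commutator_mem_commutator hn hn')
  rw [hN, bot_inf_eq, mem_bot, commutatorElement_eq_one_iff_mul_comm] at h1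
  exact h1

theorem left_of (W : Typ G) (hon : ∀ {x a : G} {L : Subgroup G}, TT x a L → core L = ⊥) {e : G} {N N' : Subgroup G}
    (hne : N ≠ N') (h : Res.TwoCore.TP Q34 e N N') : ∀ t ∈ N', orderOf t = 2 → IsComp (centralizer ({t} : Set G)) N := by
  intro t ht hto
  obtain ⟨x, T, T', htx, P, S, hP⟩ := Res.TwoCore.TP.all (worldC W) hne h ht hto
  have hN := hon ⟨T.toIsTriple, T.q⟩
  have hPc := hon ⟨S.toIsTriple, S.q⟩
  have hle : N ≤ centralizer ({t} : Set G) := fun n hn =>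
    mem_c (comm_of_triples hN T.toIsTriple T'.toIsTriple hne hn ht)
  rw [Res.CoreFree.cen_eq T.comp hle, hPc, sup_bot_eq] at hP
  rw [hP]
  exact S.comp

/-- **at most one `L`** -/
theorem one_of (hS : IsSimpleGroup G) (W : Typ G)
    (hon : ∀ {x a : G} {L : Subgroup G}, TT x a L → core L = ⊥) {x a : G} {L L' : Subgroup G}
    (T : IsTriple x a L) (T' : IsTriple x a L') (h : IsL34 (Bar L)) (h' : IsL34 (Bar L')) : L = L' := by
  by_contra hne
  obtain ⟨e, N, N', hne', h1, h2⟩ := Res.TwoCore.exists_tp (worldC W) (Q := Q34) ⟨T, h⟩ ⟨T', h'⟩ hne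
  obtain ⟨y, t, S, S', -⟩ := id h1
  have hN := hon ⟨S.toIsTriple, S.q⟩
  have hN' := hon ⟨S'.toIsTriple, S'.q⟩
  have htop : IsSimpleGroup ↥(⊤ : Subgroup G) := Subgroup.topEquiv.isSimpleGroup
  exact PairEnd.false_of_pair htop (fun _ _ => mem_top _) y e N N'
    ⟨S, S', hne', hN, hN', fun n hn n' hn' => comm_of_triples hN S.toIsTriple S'.toIsTriple hne' hn hn',
      left_of W hon hne' h1, left_of W hon hne'.symm h2⟩

end one

section world

variable {x a : G} {L : Subgroup G}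

omit [Finite G] in
/-- `C(x) ∩ C(a)` normalizes `L` -/
theorem WI.norm [Finite G] (W : WI G) (T : TT x a L) {k : G} (hkx : k * x = x * k) (hka : k * a = a * k) :
    k ∈ normalizer (L : Set G) := by
  have h1 := T.cj k
  rw [hkx, hka, mul_inv_cancel_right, mul_inv_cancel_right] at h1
  rw [mem_normalizer_iff_cj]
  exact (W.one T.toIsTriple h1.toIsTriple T.l34 h1.l34).symm

/-- trivial pump-ups -/
theorem WI.pump1 (W : WI G) (K : KFs.{u}) (T : TT x a L) (hL : core L = ⊥) {c : G}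
    (hc : IsT L x c) (hca : c * a = a * c) : ∃ N, TT x c N ∧ L ≤ N ∧ L ⊔ core N = N := by
  have hf := fixes_of_comm hc.mem
  obtain ⟨N, hN, h34, hor⟩ := pump34 K W.typ T.toIsTriple T.l34 (order_isT hc) hca hc.comm hf
  rw [cen_eq T.toIsTriple hL hc.sq hca hc.mem] at hor
  rcases hor with ⟨-, h2, h3⟩ | ⟨h1, -⟩
  · exact ⟨N, ⟨hN, h34⟩, h2, h3⟩
  · exact absurd (mem_normalizer_iff_cj.mp (W.norm ⟨hN, h34⟩ T.comm hca.symm)) h1

/-- **`O(C_L(x)) ≤ O(C(x f))`.** -/
theorem WI.bad34 (W : WI G) (K : KFs.{u}) (T : TT x a L) {w f : G}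
    (hw : IsT L x w) (hwa : w * a = a * w) (hne : w ≠ a) (hf : IsT L x f) (hfa : f * a = a * f)
    (hfw : f * w = w * f) {y : G} (hy : y ∈ L) (hy3 : y ^ 3 = 1) (hyx : y * x = x * y) :
    y ∈ core (centralizer ({x * f} : Set G)) := by
  by_contra hn
  have hL := W.hon T
  have hx2 := sq_of_order T.invx
  have ha2 := sq_of_order T.inva
  have hxf : x ≠ f := by
    rintro rfl
    exact T.not_fixes (fixes_of_comm hf.mem)
  have hfx := hf.comm
  have he : orderOf (x * f) = 2 := order_mul hx2 hf.sq hfx.symm hxf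
  obtain ⟨e, hee⟩ : ∃ e, e = x * f := ⟨_, rfl⟩
  have he2 : e * e = 1 := by rw [hee]; exact sq_of_order he
  have cfx : Commute f x := hfx
  have cfa : Commute f a := hfa
  have cfw : Commute f w := hfw
  have cwx : Commute w x := hw.comm
  have cwa : Commute w a := hwa
  have cax : Commute a x := T.comm
  have cyx : Commute y x := hyx
  have haK := mem_K T.toIsTriple
  have hTa : IsT L x a := ⟨haK, T.comm, ha2, ne_one_of_order T.inva⟩
  have hTwa : IsT L x (w * a) := by
    refine ⟨mul_mem hw.mem haK, (cwx.mul_left cax).eq, ?_, fun h => hne ?_⟩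
    · calc w * a * (w * a) = w * (a * w) * a := by group
        _ = (w * w) * (a * a) := by rw [← hwa]; group
        _ = 1 := by rw [hw.sq, ha2, one_mul]
    · have := eq_inv_of_mul_eq_one_left h
      rwa [inv_eq_of_mul_eq_one_left ha2] at this
  have hyc : y ∈ core (centralizer ({x} : Set G)) := K.mem_core T hL hy hy3 hyx
  have cy' : ∀ {k}, k ∈ centralizer (L : Set G) → Commute y k := fun hk => comm_of_mem hy hk
  have hye : y * e = e * y := by rw [hee]; exact (cyx.mul_right (cy' hf.mem)).eq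
  have hex : e * x = x * e := by rw [hee]; exact ((Commute.refl x).mul_left cfx).eq
  obtain ⟨J, TJ, hfJ⟩ := exists_triple T.invx he (by rw [← hee]; exact hex) hyc
    (mem_c (by rw [← hee]; exact hye)) hn
  rw [← hee] at TJ
  have hyJ := TJ.mem_normalizer_of_core hyc (mem_c hye)
  -- for the three involutions `v`
  have hv : ∀ v, IsT L x v → v * a = a * v → f * v = v * f → v * e = e * v ∧ v * y = y * v ∧
      (∀ M, IsComp (centralizer ({e} : Set G) ⊓ centralizer ({v} : Set G)) M → Fixes y M) ∧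
      v ∈ normalizer (J : Set G) := by
    intro v hv hva hfv
    have cvx : Commute v x := hv.comm
    have cfv : Commute f v := hfv
    have hve : v * e = e * v := by rw [hee]; exact (cvx.mul_right cfv.symm).eq
    have hvy : v * y = y * v := (comm_of_mem hy hv.mem).symm
    obtain ⟨N, TN, hLN, hsup⟩ := W.pump1 K T hL hv hva
    have hfN : Fixes f N := by
      have h1 := W.norm TN hfx hfv
      exact (fixes_iff_of_sup hsup (K_le_M hf.mem) h1).mp (fixes_of_comm hf.mem)
    have hact : Fixes (e * x⁻¹) N := by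
      have h1 : e * x⁻¹ = f := by rw [hee, ← hfx, mul_inv_cancel_right]
      rwa [h1]
    have hkill : ∀ M, IsComp (centralizer ({e} : Set G) ⊓ centralizer ({v} : Set G)) M → Fixes y M := by
      intro M hM
      rw [inf_comm] at hM
      exact K.kill34 TN he2 hve.symm (mem_c hye) (hLN hy) hact hM
    exact ⟨hve, hvy, hkill, moved_norm TJ hyc (mem_c hye) hfJ hv.sq hve hvy hkill⟩
  obtain ⟨hae, hay, hka, haJ⟩ := hv a hTa rfl hfa
  obtain ⟨hwe, hwy, hkw, hwJ⟩ := hv w hw hwa hfw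
  obtain ⟨hwae, hway, hkwa, hwaJ⟩ := hv (w * a) hTwa (cwa.mul_left (Commute.refl a)).eq
    (cfw.mul_right cfa).eq
  -- all three act as `x`: impossible
  have hthree : Fixes (a * x⁻¹) J → Fixes (w * x⁻¹) J → Fixes (w * a * x⁻¹) J → False := by
    intro h1 h2 h3
    apply TJ.not_fixes
    have b₁ := fixes_mul h2 (fixes_inv h1)
    have b₂ : w * x⁻¹ * (a * x⁻¹)⁻¹ = w * a := by
      rw [mul_inv_rev, inv_inv, inv_eq_of_mul_eq_one_left ha2]
      group
    rw [b₂] at b₁
    have b₃ := fixes_mul (fixes_inv h3) b₁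
    have b₄ : (w * a * x⁻¹)⁻¹ * (w * a) = x := by group
    rwa [b₄] at b₃
  -- the 2-group `S`
  obtain ⟨S, hS⟩ : ∃ S, S = zpowers x ⊔ zpowers w ⊔ zpowers a := ⟨_, rfl⟩
  have hS2 : IsPGroup 2 ↥S := by
    rw [hS]
    exact isPGroup_three hx2 hw.sq ha2 hw.comm T.comm hwa.symm
  have hxS : x ∈ S := by rw [hS]; exact mem_sup_left (mem_sup_left (mem_zpowers x))
  have hwS : w ∈ S := by rw [hS]; exact mem_sup_left (mem_sup_right (mem_zpowers w))
  have haS : a ∈ S := by rw [hS]; exact mem_sup_right (mem_zpowers a)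
  have hSJ : S ≤ normalizer (J : Set G) := by
    rw [hS]
    exact sup_le (sup_le (zpowers_le.mpr TJ.x_mem) (zpowers_le.mpr hwJ)) (zpowers_le.mpr haJ)
  have hLe : ∀ l ∈ L, l * x = x * l → l * e = e * l := by
    intro l hl hlx
    rw [hee]
    exact ((show Commute l x from hlx).mul_right (comm_of_mem hl hf.mem)).eq
  rcases W.typ TJ with h2 | hA | h34
  · -- `L₂(q)`
    by_cases hin : ∃ l, act J ⟨y, hyJ⟩ = MulAut.conj l
    · obtain ⟨l, hl⟩ := hin
      exact hthree
        (K.cent2 TJ h2 hyc (mem_c hye) hfJ hy3 hl ha2 hae T.comm hay haJ hka)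
        (K.cent2 TJ h2 hyc (mem_c hye) hfJ hy3 hl hw.sq hwe hw.comm hwy hwJ hkw)
        (K.cent2 TJ h2 hyc (mem_c hye) hfJ hy3 hl hTwa.sq hwae hTwa.comm hway hwaJ hkwa)
    · obtain ⟨v, hvJ, hv2, hvS⟩ := exists_inv hS2 hSJ TJ.comp.even
      have hvx : v * x = x * v := (hvS x hxS).symm
      have hva : v * a = a * v := (hvS a haS).symm
      have hvL := W.norm T hvx hva
      obtain ⟨b₀, hb₀, hb₀2, hb₀x⟩ := K.exists_b T hL
      have hev : 2 ∣ Nat.card ↥(L ⊓ centralizer ({x} : Set G)) := by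
        have h5 := Subgroup.orderOf_dvd_natCard (L ⊓ centralizer ({x} : Set G)) ⟨hb₀, mem_c hb₀x⟩
        rwa [hb₀2] at h5
      obtain ⟨b, hb, hb2, hbv⟩ := exists_inv (isPGroup_of_sq (sq_of_order hv2)) (N := L ⊓ centralizer ({x} : Set G))
        (by
          rw [zpowers_le, mem_normalizer_iff_cj, cj_inf, mem_normalizer_iff_cj.mp hvL, cj_centralizer]
          rw [show v * x * v⁻¹ = x by rw [hvx, mul_inv_cancel_right]]) hev
      have hbx : b * x = x * b := comm_c hb.2
      have hbe := hLe b hb.1 hbx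
      have hbJ : b ∉ normalizer (J : Set G) := by
        intro hbJ
        apply hin
        have hby : b * y * b⁻¹ = y⁻¹ := K.inv T hL hb.1 (sq_of_order hb2) (ne_one_of_order hb2) hbx hy hy3 hyx
        refine K.k2.out _ h2 (act J ⟨b, hbJ⟩) _ ?_ ?_
        · rw [← map_pow]
          have h3 : (⟨y, hyJ⟩ : ↥(normalizer (J : Set G))) ^ 3 = 1 := Subtype.ext hy3
          rw [h3, map_one]
        · rw [← act_inv hbJ, ← act_mul hbJ hyJ, ← act_mul (mul_mem hbJ hyJ) (inv_mem hbJ), ← act_inv hyJ]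
          exact act_congr _ hby
      exact K.no_share W.typ TJ (mem_c hbe) hbJ hvJ hv2 (hbv v (mem_zpowers v)).symm
  · -- `Aₙ`
    obtain ⟨hE3, hC⟩ := K.kA _ hA _ (Res.KFacts.act_sq TJ) _ (oddC' TJ) (img_ne TJ)
    obtain ⟨C, hCm⟩ : ∃ C : Subgroup (Bar J), ∀ c, c ∈ C ↔ ∀ ε ∈ img x e J, ε c = c :=
      ⟨{ carrier := {c | ∀ ε ∈ img x e J, ε c = c}
         mul_mem' := fun {p q} hp hq ε hε => by rw [map_mul, hp ε hε, hq ε hε]
         one_mem' := fun ε _ => map_one ε
         inv_mem' := fun {p} hp ε hε => by rw [map_inv, hp ε hε] }, fun _ => Iff.rfl⟩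
    have hC2 := hC C hCm
    obtain ⟨N, hN⟩ : ∃ N : Subgroup G, N = (C.comap (QuotientGroup.mk' (oddCore ↥J))).map J.subtype := ⟨_, rfl⟩
    have hNJ : N ≤ J := by rw [hN]; exact map_subtype_le _
    have hNm : ∀ m (hm : m ∈ J), m ∈ N ↔ (QuotientGroup.mk ⟨m, hm⟩ : Bar J) ∈ C := by
      intro m hm
      rw [hN]
      constructor
      · rintro ⟨m', hm', rfl⟩
        exact hm'
      · intro h
        exact ⟨⟨m, hm⟩, h, rfl⟩
    have hN2 : 2 ∣ Nat.card N := by
      have h1 : Nat.card N = Nat.card (C.comap (QuotientGroup.mk' (oddCore ↥J))) := by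
        rw [hN]; exact card_map_of_injective (subtype_injective _)
      rw [h1]
      have h5 : (C.comap (QuotientGroup.mk' (oddCore ↥J))).map (QuotientGroup.mk' (oddCore ↥J)) = C :=
        map_comap_eq_self_of_surjective (QuotientGroup.mk'_surjective _) C
      have h3 := card_map_dvd (C.comap (QuotientGroup.mk' (oddCore ↥J))) (QuotientGroup.mk' (oddCore ↥J))
      rw [h5] at h3
      exact hC2.trans h3
    -- `S` normalizes `N`
    have hSN : ∀ s, s * x = x * s → s * e = e * s → s ∈ normalizer (J : Set G) → ∀ m ∈ N, s * m * s⁻¹ ∈ N := by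
      intro s hsx hse hsJ m hm
      have hmJ := hNJ hm
      rw [hNm _ (conj_mem hsJ hmJ), ← act_mk hsJ hmJ, hCm]
      intro ε hε
      obtain ⟨d, hdJ, hd, hde, rfl⟩ := mem_img.mp hε
      have hsJ' := inv_mem hsJ
      have h5 : act J ⟨s⁻¹ * d * s, mul_mem (mul_mem hsJ' hdJ) hsJ⟩ ∈ img x e J := by
        refine mem_img.mpr ⟨_, _, ?_, ?_, rfl⟩
        · have h6 := conj_core (inv_mem (mem_c hsx)) hd
          rwa [inv_inv] at h6
        · have c1 : Commute s e := hse
          exact ((c1.inv_left.mul_left (show Commute d e from hde)).mul_left c1).eq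
      have h6 := (hCm _).mp ((hNm m hmJ).mp hm) _ h5
      rw [act_mul (mul_mem hsJ' hdJ) hsJ, act_mul hsJ' hdJ, act_inv hsJ] at h6
      have h7 := congrArg (act J ⟨s, hsJ⟩) h6
      have h8 : ∀ z, act J ⟨s, hsJ⟩ ((act J ⟨s, hsJ⟩)⁻¹ z) = z := by
        intro z
        rw [← MulAut.mul_apply, mul_inv_cancel, MulAut.one_apply]
      rw [MulAut.mul_apply, MulAut.mul_apply, h8] at h7
      exact h7
    have hSnorm : S ≤ normalizer (N : Set G) := by
      have key : ∀ s, s * s = 1 → s * x = x * s → s * e = e * s → s ∈ normalizer (J : Set G) →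
          s ∈ normalizer (N : Set G) := by
        intro s hss hsx hse hsJ
        rw [mem_normalizer_iff]
        intro m
        refine ⟨hSN s hsx hse hsJ m, fun h => ?_⟩
        have h1 := hSN s hsx hse hsJ _ h
        have h2 : s * (s * m * s⁻¹) * s⁻¹ = m := by
          rw [inv_eq_of_mul_eq_one_left hss]
          calc s * (s * m * s) * s = (s * s) * m * (s * s) := by group
            _ = m := by rw [hss]; group
        rwa [h2] at h1
      rw [hS]
      exact sup_le (sup_le (zpowers_le.mpr (key x hx2 rfl hex.symm TJ.x_mem))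
        (zpowers_le.mpr (key w hw.sq hw.comm hwe hwJ))) (zpowers_le.mpr (key a ha2 T.comm hae haJ))
    obtain ⟨v, hvN, hv2, hvS⟩ := exists_inv hS2 hSnorm hN2
    have hvJ := hNJ hvN
    have hvx : v * x = x * v := (hvS x hxS).symm
    have hva : v * a = a * v := (hvS a haS).symm
    have hvL := W.norm T hvx hva
    -- `v` centralizes `O(C_L(x))`
    have hvY : ∀ z ∈ L, z ^ 3 = 1 → z * x = x * z → z * v = v * z := by
      intro z hz hz3 hzx
      have hzc := K.mem_core T hL hz hz3 hzx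
      have hze := hLe z hz hzx
      have hzJ := TJ.mem_normalizer_of_core hzc (mem_c hze)
      have h5 := (hCm _).mp ((hNm v hvJ).mp hvN) _ (mem_img.mpr ⟨z, hzJ, hzc, hze, rfl⟩)
      rw [act_mk hzJ hvJ, mk_eq_iff] at h5
      -- `[z, v] ∈ core J`
      have h6 : z * v * z⁻¹ * v⁻¹ ∈ core J := by
        have h7 := conj_mem_core (le_normalizer hvJ) (inv_mem h5)
        convert h7 using 1
        group
      have h7 : z * v * z⁻¹ * v⁻¹ ∈ core (centralizer ({x * f} : Set G)) := by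
        rw [← hee]
        exact TJ.comp.core_le_core h6
      have h8 : z * v * z⁻¹ * v⁻¹ ∈ L := by
        have h9 : z * v * z⁻¹ * v⁻¹ = z * (v * z⁻¹ * v⁻¹) := by group
        rw [h9]
        exact mul_mem hz (conj_mem hvL (inv_mem hz))
      have h9 := K.inf_eq_one T hL hf.mem hy hy3 hyx hn h8 h7
      exact mul_inv_eq_iff_eq_mul.mp (mul_inv_eq_one.mp h9)
    obtain ⟨ξ, hξ, F, F3⟩ := K.honest T hL
    obtain ⟨β, hβ⟩ := exists_acts hvL
    have hβ' : β = 1 ∨ β = ξ := by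
      refine cy F F3.toFacts2 (hβ.sq (sq_of_order hv2)) (hβ.comm hξ hvx) fun z hz3 hzx => ?_
      rw [hβ.fix_iff]
      exact (hvY z z.2 (congrArg Subtype.val hz3) ((hξ.fix_iff z).mp hzx).symm).symm
    -- an element of order 4
    obtain ⟨s, hs1, hs2, hs3⟩ := F3.exs
    obtain ⟨r, hr, hrs⟩ := F3.sq4 s hs1 hs2 hs3
    have hrx : (r : G) * x = x * r := ((hξ.fix_iff r).mp hr).symm
    have hre := hLe r r.2 hrx
    have hrv : (r : G) * v = v * r := by
      have h5 : β r = r := by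
        rcases hβ' with h | h
        · rw [h, MulAut.one_apply]
        · rw [h]; exact hr
      exact ((hβ.fix_iff r).mp h5).symm
    have hrr : (r : G) * r = s := congrArg Subtype.val hrs
    have hinv := K.inv T hL s.2 (congrArg Subtype.val hs1) (fun h => hs2 (Subtype.ext h))
      ((hξ.fix_iff s).mp hs3).symm hy hy3 hyx
    have hrJ := not_norm_of_three TJ hE3 hyc hye hfJ hy3 hrx hre (w₀ := (r : G)) (by rw [hrr]; exact hinv)
    exact K.no_share W.typ TJ (mem_c hre) hrJ hvJ hv2 hrv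
  · -- `L₃(4)`
    exact hthree
      (K.cent34 ⟨TJ, h34⟩ hyc (mem_c hye) hfJ ha2 hae T.comm hay haJ hka)
      (K.cent34 ⟨TJ, h34⟩ hyc (mem_c hye) hfJ hw.sq hwe hw.comm hwy hwJ hkw)
      (K.cent34 ⟨TJ, h34⟩ hyc (mem_c hye) hfJ hTwa.sq hwae hTwa.comm hway hwaJ hkwa)


end world

/-- The honest configuration. -/
structure HonI (x : G) (L : Subgroup G) : Prop where
  ox : orderOf x = 2
  good : ∀ {t : G}, IsT L x t → TT x t L
  four : ∃ t u : G, IsT L x t ∧ IsT L x u ∧ t ≠ u ∧ t * u = u * t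

section hon

variable {x a : G} {L : Subgroup G}

theorem step34 (W : WI G) (K : KFs.{u}) (T : TT x a L) {t : G}
    (ht : IsT L x t) (hta : t * a = a * t) : TT x t L := by
  by_cases hne : t = a
  · rw [hne]; exact T
  obtain ⟨N, hN, hle, hsup⟩ := W.pump1 K T (W.hon T) ht hta
  rw [W.hon hN, sup_bot_eq] at hsup
  rw [hsup]
  exact hN

/-- **the honest configuration** -/
theorem hon_of (W : WI G) (K : KFs.{u}) (T : TT x a L)
    (four : ∃ t u : G, IsT L x t ∧ IsT L x u ∧ t ≠ u ∧ t * u = u * t) : HonI x L := by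
  refine ⟨T.invx, ?_, four⟩
  intro t ht
  have hka := mem_K T.toIsTriple
  obtain ⟨P, z, hP2, hPL, hPx, htP, hzP, hz, hzc, hcj⟩ := exists_P ht
  obtain ⟨g, hgL, hgx, hg⟩ := hcj (zpowers a) (isPGroup_of_sq (sq_of_order T.inva))
    (zpowers_le.mpr hka) (fun r hr => by
      obtain ⟨k, rfl⟩ := mem_zpowers_iff.mp hr
      exact (Commute.zpow_left (show Commute a x from T.comm) k).eq)
  have hgP := hg a (mem_zpowers a)
  have T' := T.cj g
  rw [hgx, mul_inv_cancel_right, mem_normalizer_iff_cj.mp (K_le_M hgL)] at T'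
  have Tz := step34 W K T' hz (hzc _ hgP).symm
  exact step34 W K Tz ht (hzc _ htP)

theorem HonI.partner (h : HonI x L) {t : G} (ht : IsT L x t) : ∃ u, IsT L x u ∧ u ≠ t ∧
    u * t = t * u := by
  obtain ⟨P, z, hP2, hPL, hPx, htP, hzP, hz, hzc, hcj⟩ := exists_P ht
  by_cases hzt : z = t
  · subst hzt
    obtain ⟨t₁, u₁, h1, h2, h3, h4⟩ := h.four
    have h5 : IsPGroup 2 ↥(zpowers t₁ ⊔ zpowers u₁) := by
      refine Tri.isPGroup_sup_zpowers (isPGroup_of_sq h1.sq) ?_ (n := 1) ?_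
      · rw [mem_normalizer_iff_cj, cj, MonoidHom.map_zpowers]
        have : (MulAut.conj u₁).toMonoidHom t₁ = t₁ := by
          simp only [MulEquiv.coe_toMonoidHom, MulAut.conj_apply]
          rw [← h4, mul_inv_cancel_right]
        rw [this]
      · rw [pow_one, pow_two, h2.sq]
    obtain ⟨g, hgL, hgx, hg⟩ := hcj (zpowers t₁ ⊔ zpowers u₁) h5
      (sup_le (zpowers_le.mpr h1.mem) (zpowers_le.mpr h2.mem)) (by
        have : zpowers t₁ ⊔ zpowers u₁ ≤ centralizer ({x} : Set G) :=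
          sup_le (zpowers_le.mpr (mem_c h1.comm)) (zpowers_le.mpr (mem_c h2.comm))
        exact fun r hr => comm_c (this hr))
    have g1 := hg t₁ (mem_sup_left (mem_zpowers t₁))
    have g2 := hg u₁ (mem_sup_right (mem_zpowers u₁))
    have k1 := isT_conj (K_le_M hgL) hgx h1
    have k2 := isT_conj (K_le_M hgL) hgx h2
    by_cases hne : g * t₁ * g⁻¹ = z
    · refine ⟨_, k2, ?_, hzc _ g2⟩
      rintro h6
      apply h3
      have h7 := hne.trans h6.symm
      simpa using h7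
    · exact ⟨_, k1, hne, hzc _ g1⟩
  · exact ⟨z, hz, hzt, (hzc _ htP).symm⟩

theorem HonI.bot (W : WI G) (h : HonI x L) : core L = ⊥ := by
  obtain ⟨t, u, ht, -⟩ := h.four
  exact W.hon (h.good ht)

/-- `O(C_L(x)) ≤ O(C(x))` -/
theorem HonI.bad (W : WI G) (K : KFs.{u}) (h : HonI x L) {y : G} (hy : y ∈ L) (hy3 : y ^ 3 = 1)
    (hyx : y * x = x * y) : y ∈ core (centralizer ({x} : Set G)) := by
  obtain ⟨t, u, ht, -⟩ := h.four
  exact K.mem_core (h.good ht) (h.bot W) hy hy3 hyx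

/-- `x t` is bad as well -/
theorem HonI.mul (W : WI G) (K : KFs.{u}) (h : HonI x L) {t : G} (ht : IsT L x t) :
    HonI (x * t) L := by
  have T := h.good ht
  obtain ⟨u, hu, hne, hc⟩ := h.partner ht
  have hcore := W.hon T
  have hxt : x ≠ t := by
    rintro rfl
    exact T.not_fixes (fixes_of_comm ht.mem)
  have he : orderOf (x * t) = 2 := order_mul (sq_of_order h.ox) ht.sq ht.comm.symm hxt
  obtain ⟨ξ, hξ, F, F3⟩ := K.honest T hcore
  obtain ⟨y, z, hy3, hyx, hz3, hzx, hy1, hz1, hyz, hyz'⟩ := F.indep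
  have hy := W.bad34 K T hu hc hne ht rfl hc.symm y.2 (congrArg Subtype.val hy3)
    ((hξ.fix_iff y).mp hyx).symm
  have ctx : Commute t x := ht.comm
  have cux : Commute u x := hu.comm
  have cut : Commute u t := hc
  have T' : TT (x * t) t L := by
    refine ⟨⟨he, order_isT ht, (ctx.mul_right (Commute.refl t)).eq, T.comp, y, hy, ?_, fun hf => ?_⟩, T.l34⟩
    · exact mem_c (mem_centralizer_iff.mp ht.mem y y.2)
    · apply hy1
      apply F.cl
      have h1 := comm_of_fixes hcore hf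
      exact (acts_coe y).uniq (acts_one_iff.mpr h1)
  exact hon_of W K T' ⟨t, u, ⟨ht.mem, (ctx.mul_right (Commute.refl t)).eq, ht.sq, ht.ne⟩,
    ⟨hu.mem, (cux.mul_right cut).eq, hu.sq, hu.ne⟩, hne.symm, hc.symm⟩

/-- conjugation -/
theorem HonI.conj (h : HonI x L) (g : G) : HonI (g * x * g⁻¹) (cj g L) := by
  have hT : ∀ {x : G} {L : Subgroup G} {t : G} (g : G), IsT L x t → IsT (cj g L) (g * x * g⁻¹) (g * t * g⁻¹) := by
    intro x L t g ht
    refine ⟨?_, ?_, ?_, ?_⟩
    · rw [mem_centralizer_iff]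
      intro l hl
      obtain ⟨l', hl', rfl⟩ := hl
      have h1 := comm_of_mem hl' ht.mem
      change g * l' * g⁻¹ * (g * t * g⁻¹) = g * t * g⁻¹ * (g * l' * g⁻¹)
      calc g * l' * g⁻¹ * (g * t * g⁻¹) = g * (l' * t) * g⁻¹ := by group
        _ = g * (t * l') * g⁻¹ := by rw [h1]
        _ = _ := by group
    · calc g * t * g⁻¹ * (g * x * g⁻¹) = g * (t * x) * g⁻¹ := by group
        _ = g * (x * t) * g⁻¹ := by rw [ht.comm]
        _ = _ := by group
    · calc g * t * g⁻¹ * (g * t * g⁻¹) = g * (t * t) * g⁻¹ := by group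
        _ = 1 := by rw [ht.sq]; group
    · intro h
      apply ht.ne
      have : t = g⁻¹ * (g * t * g⁻¹) * g := by group
      rw [this, h]; group
  refine ⟨?_, fun {t} ht => ?_, ?_⟩
  · have h1 := (MulAut.conj g).orderOf_eq x
    rw [h.ox] at h1
    exact h1
  · have h1 := hT g⁻¹ ht
    rw [cj_inv_cj] at h1
    have e1 : g⁻¹ * (g * x * g⁻¹) * g⁻¹⁻¹ = x := by group
    rw [e1] at h1
    have h4 := (h.good h1).cj g
    have e2 : g * (g⁻¹ * t * g⁻¹⁻¹) * g⁻¹ = t := by group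
    rwa [e2] at h4
  · obtain ⟨t, u, ht, hu, hne, hc⟩ := h.four
    refine ⟨_, _, hT g ht, hT g hu, fun h => hne ?_, ?_⟩
    · exact mul_left_cancel (mul_right_cancel h)
    · calc g * t * g⁻¹ * (g * u * g⁻¹) = g * (t * u) * g⁻¹ := by group
        _ = g * (u * t) * g⁻¹ := by rw [hc]
        _ = _ := by group

/-- the conjugates of `L` in `C(e)` do not commute with `L`: the first half of `~` -/
theorem HonI.cmp_of_comm (K : KFs.{u}) {e : G} {L L' : Subgroup G} (hb : core L' = ⊥) (h : HonI e L)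
    {a' : G} (T' : TT e a' L') (hc : Blk.Comm L L') :
    ∀ t ∈ L', orderOf t = 2 → Blk.Cmp (⊤ ⊓ centralizer ({t} : Set G)) L := by
  obtain ⟨b, hb', hb2, hbe⟩ := K.exists_b T' hb
  have h1 : IsT L e b := ⟨mem_centralizer_iff.mpr fun l hl => hc l hl b hb', hbe, sq_of_order hb2,
    ne_one_of_order hb2⟩
  intro t ht ht2
  rw [top_inf_eq]
  exact Blk.Twin.Hyp.cmp_all hc (fun t ht u hu ht2 hu2 => OneOut.conj34 T'.l34 hb ht hu ht2 hu2) hb' hb2
    (Res.TwoSup.cmp_of_isComp (h.good h1).comp) t ht ht2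

/-- `e` is bad for `L` and `L'`, which commute: they are a pair -/
theorem HonI.rel (W : WI G) (K : KFs.{u}) {e : G} {L L' : Subgroup G} (h : HonI e L)
    (h' : HonI e L') (hc : Blk.Comm L L') (hne : L ≠ L') : Blk.Rel ⊤ L L' := by
  obtain ⟨t, -, ht, -⟩ := h.four
  obtain ⟨t', -, ht', -⟩ := h'.four
  have T := h.good ht
  have T' := h'.good ht'
  exact ⟨le_top, le_top, hne, hc, h.cmp_of_comm K (W.hon T') T' hc,
    h'.cmp_of_comm K (W.hon T) T hc.symm⟩

/-- no `~`-pairs of type `L₃(4)` -/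
theorem noRel (hS : IsSimpleGroup G) : NoRel G := by
  rintro L P ⟨x, a, T, hc⟩ ⟨x', a', T', hc'⟩ h
  have htop : IsSimpleGroup ↥(⊤ : Subgroup G) := Subgroup.topEquiv.isSimpleGroup
  exact PairBase.false_of_rel34 htop (fun _ _ => mem_top _) (fun _ M => PairEnd.ad34 M) h ⟨x, a, T, hc⟩
    ⟨x', a', T', hc'⟩

/-- **no commuting conjugates in `C(e)`** -/
theorem HonI.nc (W : WI G) (K : KFs.{u}) (nr : NoRel G) {e : G} (h : HonI e L) {g : G}
    (hg : g * e = e * g) : ¬ ∀ l ∈ L, g * l * g⁻¹ ∈ centralizer (L : Set G) := by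
  intro hL
  have h' := h.conj g
  rw [hg, mul_inv_cancel_right] at h'
  obtain ⟨t, -, ht, -⟩ := h.four
  have T := h.good ht
  have hbot := W.hon T
  have hc : Blk.Comm L (cj g L) := by
    rintro a ha _ ⟨l, hl, rfl⟩
    exact mem_centralizer_iff.mp (hL l hl) a ha
  have hne : L ≠ cj g L := by
    intro he
    rw [← he] at hc
    exact not_comm_self T hbot K hc
  refine nr ⟨e, t, T, hbot⟩ ⟨e, g * t * g⁻¹, ?_, ?_⟩ (h.rel W K h' hc hne)
  · have := T.cj g
    rwa [hg, mul_inv_cancel_right] at this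
  · rw [core_cj, hbot, cj, Subgroup.map_bot]

/-- **the hypotheses of `CE.L34.QGrp.main`** -/
theorem qgrp (W : WI G) (K : KFs.{u}) (nr : NoRel G) (L : Subgroup G) :
    CE.L34.QGrp (fun t : G => core (centralizer ({t} : Set G))) L (fun e => HonI e L) where
  Ocj g t a ha := by
    have h1 : g * a * g⁻¹ ∈ cj g (core (centralizer ({t} : Set G))) := ⟨a, ha, rfl⟩
    rwa [← core_cj, cj_centralizer] at h1
  Oc _ a ha := comm_c (core_le _ ha)
  odd _ := odd_card_core _
  sq h := sq_of_order h.ox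
  facts h := by
    obtain ⟨t, -, ht, -⟩ := h.four
    obtain ⟨ξ, hξ, F, F3⟩ := K.honest (h.good ht) (h.bot W)
    exact ⟨ξ, hξ, F3⟩
  c5 h ξ hξ := by
    obtain ⟨t, -, ht, -⟩ := h.four
    have T := h.good ht
    obtain ⟨E, hE, hne, -⟩ := exists_E T.toIsTriple hξ
    exact CE.L34.facts5_of (isL34_self T (h.bot W)) (hξ.sq (sq_of_order h.ox)) hE hne
  Oodd t := odd_card_core _
  Bt h t ht := h.mul W K ht
  four h := h.four
  cmp h t ht c hc := by
    have T := h.good ht
    have hJ : IsComp (centralizer ({t} : Set G)) (cj c L) := LTF.Basics.comp_cj T.comp (mem_c hc)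
    by_cases hne : cj c L = L
    · left
      intro l hl
      rw [← hne]
      exact ⟨l, hl, rfl⟩
    · right
      intro l hl
      rw [mem_centralizer_iff]
      intro m hm
      have h1 := (T.comp.comm_le_core hJ (Ne.symm hne)) (commutator_mem_commutator hm ⟨l, hl, rfl⟩)
      rw [W.hon T, bot_inf_eq, mem_bot, commutatorElement_eq_one_iff_mul_comm] at h1
      exact h1
  nc h g hg := h.nc W K nr hg
  bad h y hy hy3 hye := h.bad W K hy hy3 hye
  Bcj h l hl := by
    have h1 := h.conj l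
    rwa [cj_eq_self_of_mem hl] at h1
  uni h z hz g hg hgz := by
    have T := h.good hz
    have T2 := h.good hgz
    have T1 := T.cj g
    rw [hg, mul_inv_cancel_right] at T1
    rw [mem_normalizer_iff_cj]
    exact W.one T1.toIsTriple T2.toIsTriple T1.l34 T2.l34
  fin h t ht := W.cen (h.good ht)

/-- `x` normalises no conjugate of `L` commuting with `L` -/
theorem twinHyp (W : WI G) (h : HonI x L) : Blk.Twin.Hyp L x where
  sp := by
    obtain ⟨t, -, ht, -⟩ := h.four
    have T := h.good ht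
    obtain ⟨ξ, -, F, -⟩ := OneGlue.kfs.honest T (h.bot W)
    exact ⟨F.simp, T.comp.perfect⟩
  even := by
    obtain ⟨t, -, ht, -⟩ := h.four
    obtain ⟨b, hb, hb2, -⟩ := OneGlue.kfs.exists_b (h.good ht) (h.bot W)
    exact ⟨b, hb, hb2⟩
  conj2 t ht u hu ht2 hu2 := by
    obtain ⟨t', -, ht', -⟩ := h.four
    exact OneOut.conj34 (h.good ht').l34 (h.bot W) ht hu ht2 hu2
  two := isPGroup_of_sq (sq_of_order h.ox)
  mem := by
    obtain ⟨t, -, ht, -⟩ := h.four
    exact (h.good ht).x_mem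
  cmp t ht ht2 htx := Res.TwoSup.cmp_of_isComp
    (h.good ⟨ht, htx, sq_of_order ht2, ne_one_of_order ht2⟩).comp

/-- **the hypotheses of `ThEP.PIn`** -/
theorem pin (W : WI G) (nr : NoRel G) (h : HonI x L) :
    ThEP.PIn (fun t : G => core (centralizer ({t} : Set G))) L (fun e => HonI e L) x where
  toQGrp := qgrp W OneGlue.kfs nr L
  Bx := h
  l34 := by
    obtain ⟨t, -, ht, -⟩ := h.four
    exact isL34_self (h.good ht) (h.bot W)
  rk t ht := h.partner ht
  cmp2 t t' g ht ht' hgt := by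
    have T := h.good ht
    have T' := h.good ht'
    have hJ : IsComp (centralizer ({t'} : Set G)) (cj g L) := by
      have h1 := T.comp.cj g
      rwa [cj_centralizer, hgt] at h1
    by_cases hne : cj g L = L
    · left
      exact mem_normalizer_iff_cj.mpr hne
    · right
      intro l hl
      rw [mem_centralizer_iff]
      intro m hm
      have h1 := (T'.comp.comm_le_core hJ (Ne.symm hne)) (commutator_mem_commutator hm ⟨l, hl, rfl⟩)
      rw [W.hon T, bot_inf_eq, mem_bot, commutatorElement_eq_one_iff_mul_comm] at h1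
      exact h1
  twin g hx hc := by
    obtain ⟨t, -, ht, -⟩ := h.four
    have T := h.good ht
    refine (twinHyp W h).twin (fun g hr => nr ⟨x, t, T, h.bot W⟩ ⟨_, _, T.cj g, ?_⟩ hr) g hx hc
    rw [core_cj, h.bot W, IntrinsicBasic.cj, Subgroup.map_bot]

/-- **The contradiction.** -/
theorem WI.false_of (W : WI G) (hS : IsSimpleGroup G) (hN : Parity.NoSign G) (T : TT x a L)
    (four : ∃ t u : G, IsT L x t ∧ IsT L x u ∧ t ≠ u ∧ t * u = u * t) : False :=
  (pin W (noRel hS) (hon_of W OneGlue.kfs T four)).false_of hN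

/-- **The contradiction.** -/
theorem in1 (hS : IsSimpleGroup G) (hN : Parity.NoSign G) (W : Typ G)
    (hon : ∀ {x a : G} {L : Subgroup G}, TT x a L → core L = ⊥)
    (cen : ∀ {x a : G} {L : Subgroup G}, TT x a L → core (centralizer ({a} : Set G)) ≤ centralizer (L : Set G))
    (x a : G) (L : Subgroup G) (T : TT x a L)
    (four : ∃ t u : G, IsT L x t ∧ IsT L x u ∧ t ≠ u ∧ t * u = u * t) : False :=
  WI.false_of ⟨W, hon, cen, fun T T' h h' => one_of hS W hon T T' h h'⟩ hS hN T four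

end hon

end Cfsg.Agent.UGT.N2W.HonIn
end

-- part: UGT/Res/WPlug
section
set_option linter.all false
open scoped Cfsg.Agent.FastGrp

/-!
# The field `w` of `TreeB.Missing7`
-/

set_option autoImplicit false
set_option linter.unusedSectionVars false

open Cfsg Subgroup
open Cfsg.Agent.SignalizersComponents Cfsg.Agent.Lib
open Cfsg.Agent.SignalizersComponents.IntrinsicBasic
open Cfsg.Agent.Intrinsic.Basic
open Cfsg.Agent.FixBN.BTheorem
open Cfsg.Agent.UGT.Triple Cfsg.Agent.UGT.TriBase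
open Cfsg.Agent.UGT.Res.KFacts
open Cfsg.Agent.UGT.Res.WFun Cfsg.Agent.UGT.Res.TFour
open Cfsg.Agent.UGT.Res.WMany
open Cfsg.Agent.UGT.Iface Cfsg.Agent.UGT.Nodes

namespace Cfsg.Agent.UGT.Res.WPlug

universe u

local notation "Fs" => generalizedFittingSubgroup

variable {G : Type u} [Group G] [Finite G]

theorem faith (FA : U2.FOne.All.FAll.{u})
    (heK : ∀ (K : Type u) [Group K] [Finite K], Spor.IsoHe K → NodeHeG.HF K) (hG : MinCex G) (P : Pgl G)
    (htop : Fs G = ⊤) : W1.Of.Faith G := by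
  intro x y R₀ J M N Lr hM S hR
  refine S.false_of_faithful FA heK P hG hR ?_
  refine lt_of_le_of_lt (Subgroup.card_le_of_le S.comp.le) ?_
  rw [htop, Subgroup.card_top]
  refine lt_of_le_of_ne (Subgroup.card_le_card_group M) fun h => hM ?_
  exact Subgroup.eq_top_of_card_eq M h

/-- **the field `w`** -/
theorem w (FA : U2.FOne.All.FAll.{u})
    (heK : ∀ (K : Type u) [Group K] [Finite K], Spor.IsoHe K → NodeHeG.HF K) (hk : Known.{u})
    (FT : Intrinsic.Functor.OddSol G) (hcrit : IsSimpleGroup G → Crit G) (hG : MinCex G) (P : Pgl G)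
    (htop : Fs G = ⊤) : TwoSup.WOne G ∧ (Hon.One G → WOne.WOne G) := by
  have hs := WLeaf.isSimple_of_top hG htop
  have TB := TwoBalOf.twoBal FT P
  have hF : W1.Of.Faith G := faith FA heK hG P htop
  have hc := hcrit hs
  by_cases hex : ∃ (x a : G) (L : Subgroup G), IsTriple x a L
  · obtain ⟨x, a, L, T⟩ := hex
    have hB := TwoBalOf.hasB hk hG P T
    refine ⟨?_, ?_⟩
    · intro x a L₁ L₂ F F₁ C
      obtain ⟨x₀, e, t, L, B, S, hBL, hB2, hB4, hW⟩ := TConf.tconf P TB C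
      rw [← hW]
      exact (W1.Of.bot_of P TB hB hc hF S).eq B hBL hB2 hB4
    · intro O x a t L W T ot hne hta htx htL F _
      have S : TF x a t L := ⟨T, ot, hne, hta, htx, htL, fun r hr h1 =>
        ⟨_, WGlueA.pump_R P O T ot hne hta htx htL r hr h1⟩⟩
      obtain ⟨B, hBL, hB2, hB4⟩ := WGlue.exists_B P T
      rw [← F.eq B hBL hB2 hB4]
      exact (W1.Of.bot_of P TB hB hc hF S).eq B hBL hB2 hB4
  · push Not at hex
    exact ⟨fun x a L₁ L₂ F F₁ C => absurd C.T₁ (hex x a L₁), fun _ {x a t L W} T _ _ _ _ _ _ _ =>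
      absurd T (hex x a L)⟩

end Cfsg.Agent.UGT.Res.WPlug
end

-- part: UGT/N2/NodeOf
section
set_option linter.all false

/-!
# N2: `NodeL34w` from (5) and (IN1)

* `Five`: (5) of bb #17697 (`W ≠ 1` ⟹ no family of at least two commuting germs over `W`).
* `InOne`: (IN1), all cores trivial.
* `nodeL34w_of`.
-/

set_option autoImplicit false

open Cfsg Subgroup
open Cfsg.Agent.SignalizersComponents Cfsg.Agent.Lib
open Cfsg.Agent.SignalizersComponents.IntrinsicBasic
open Cfsg.Agent.Intrinsic.Basic Cfsg.Agent.Intrinsic.Cen Cfsg.Agent.Intrinsic.Diag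
open Cfsg.Agent.FixBN.BTheorem Cfsg.Agent.FixBN.BRelative
open Cfsg.Agent.UGT.Triple Cfsg.Agent.UGT.TriBase Cfsg.Agent.UGT.Iface
open Cfsg.Agent.UGT.N2S (TT Typ)

namespace Cfsg.Agent.UGT.N2.NodeOf

universe u

local notation "Fs" => generalizedFittingSubgroup

/-- (5), helper102 -/
def Five : Prop := ∀ (G : Type u) [Group G] [Finite G], Skel.Av G → Fs G = ⊤ → IsSimpleGroup G →
  ∀ {W : Subgroup G} {𝓗 : Set (Subgroup G)}, N2W.Many W 𝓗 → W ≠ ⊥ → False

/-- (IN1), helper20 -/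
def InOne : Prop := ∀ (G : Type u) [Group G] [Finite G], IsSimpleGroup G → Parity.NoSign G → Typ G →
  (∀ {x a : G} {L : Subgroup G}, TT x a L → core L = ⊥) →
  (∀ {x a : G} {L : Subgroup G}, TT x a L → core (centralizer ({a} : Set G)) ≤ centralizer (L : Set G)) →
  ∀ (x a : G) (L : Subgroup G), TT x a L → Skel.Two x a L → False

theorem oddSol (G : Type u) [Group G] [Finite G] : Intrinsic.Functor.OddSol G :=
  fun _ hY => S0205.result hY

theorem heK (K : Type u) [Group K] [Finite K] (h : Spor.IsoHe K) : NodeHeG.HF K :=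
  HeEnd.hf_congr h.some.symm HeEnd.hf_he

theorem missing (five : Five.{u}) (in1 : InOne.{u}) : Skel.Missing.{u} where
  parts _ _ _ A ht hs := N2W.CommR.parts U2.FOne.Final.fAll heK A.world A.cex A.bal (five _ A ht hs)
  in1 := in1

/-- **N2** -/
theorem nodeL34w_of (five : Five.{u}) (in1 : InOne.{u}) : Nodes.NodeL34w.{u} :=
  Skel.nodeL34w_of FixBN.KnownAll.known oddSol (missing five in1)

end Cfsg.Agent.UGT.N2.NodeOf
end

-- part: UGT/N2/NodeEnd
section
set_option linter.all false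
open scoped Cfsg.Agent.FastGrp

/-!
# N2: `NodeL34w`, no hypotheses
-/

set_option autoImplicit false

open Cfsg Subgroup
open Cfsg.Agent.SignalizersComponents Cfsg.Agent.Lib
open Cfsg.Agent.SignalizersComponents.IntrinsicBasic
open Cfsg.Agent.Intrinsic.Basic Cfsg.Agent.Intrinsic.Cen Cfsg.Agent.Intrinsic.Diag
open Cfsg.Agent.UGT.Triple Cfsg.Agent.UGT.TriBase Cfsg.Agent.UGT.Iface
open Cfsg.Agent.UGT.N2S (TT Typ)
open scoped commutatorElement

namespace Cfsg.Agent.UGT.N2.NodeEnd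

universe u

/-- (5) -/
theorem five : NodeOf.Five.{u} := by
  intro G _ _ A _ hs W F M hW
  exact N2W.PFive.five hs A.bal M hW

/-- (IN1) -/
theorem in1 : NodeOf.InOne.{u} := by
  intro G _ _ hs hN W hon cen x a L T h2
  obtain ⟨t, ht, hne, hta, htx, hf⟩ := h2
  have hb := hon T
  refine N2W.HonIn.in1 hs hN W hon cen x a L T ⟨a, t, ⟨?_, T.comm, ?_, ?_⟩, ⟨?_, htx, ?_, ?_⟩, hne.symm, hta.symm⟩
  · rw [mem_centralizer_iff]
    intro l hl
    exact (mem_centralizer_singleton_iff.mp (T.comp.le hl)).symm ▸ rfl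
  · have := pow_orderOf_eq_one a
    rwa [T.inva, pow_two] at this
  · rintro rfl
    have := T.inva
    rw [orderOf_one] at this
    omega
  · rw [mem_centralizer_iff]
    intro l hl
    have h1 := hf.2 l hl
    rw [hb, mem_bot, commutatorElement_eq_one_iff_mul_comm] at h1
    exact h1.symm
  · have := pow_orderOf_eq_one t
    rwa [ht, pow_two] at this
  · rintro rfl
    rw [orderOf_one] at ht
    omega

/-- **N2** -/
theorem nodeL34w : Nodes.NodeL34w.{u} :=
  NodeOf.nodeL34w_of five in1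

end Cfsg.Agent.UGT.N2.NodeEnd
end

-- part: UGT/Final
section
set_option linter.all false

/-!
# Assembly of S1311

`Missing`: the pieces which are still open, with their literal types; `ugt` is the assembly and `p1311` the statement
of S1311. A field disappears from `Missing` when a file on main proves its type; its replacement is one line
below.
-/

set_option autoImplicit false

open Cfsg Subgroup
open Cfsg.Agent.FixBN.BTheorem Cfsg.Agent.FixBN.BRelative
open Cfsg.Agent.Intrinsic.Basic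
open Cfsg.Agent.UGT.Triple Cfsg.Agent.UGT.Iface Cfsg.Agent.UGT.Nodes Cfsg.Agent.UGT.InUList

namespace Cfsg.Agent.UGT.Final

universe u

/-- The open pieces of S1311. -/
structure Missing : Prop where
  /-- N2 -/
  l34 : NodeL34w.{u}

theorem oddSol (G : Type u) [Group G] [Finite G] : Intrinsic.Functor.OddSol G :=
  fun _ hY => S0205.result hY

/-- sectional 2-rank at most 4 (S0500) -/
theorem k4 : PK4.{u} := fun G _ _ _ hna h4 => GH.FinalKFour.k4 G hna h4

theorem p1738 : OddHalf.Stmts.P1738.{u} :=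
  fun h1 h2 t ht K hK htK n hn hKA => S1738.result h1 h2 t ht K hK htK n hn hKA

theorem nodeE : NodeE.{u} :=
  NodeE.nodeE k4 EndK4All.endK4 fun _ _ _ h1 h2 h3 h4 t ht => S1291.result h1 h2 h3 h4 t ht

theorem nodeA7 : NodeA7'.{u} := A7.B.Plug.nodeA7 k4 EndK4All.endK4

theorem heK (K : Type u) [Group K] [Finite K] (h : Spor.IsoHe K) : NodeHeG.HF K :=
  HeEnd.hf_congr h.some.symm HeEnd.hf_he

/-- N7, `W = 1` -/
theorem w (G : Type u) [Group G] [Finite G] (hG : MinCex G) (P : Res.KFacts.Pgl G)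
    (htop : generalizedFittingSubgroup G = ⊤) : Res.TwoSup.WOne G ∧ (Res.Hon.One G → Res.WOne.WOne G) :=
  Res.WPlug.w (fun K _ _ h1 h2 h3 h4 => U2.FOne.Final.fAll K h1 h2 h3 h4) heK FixBN.KnownAll.known (oddSol G)
    (fun _ => Res.WMany.crit) hG P htop

/-- N7, field type 2-elements exist, each centralizer has one involution -/
theorem fld (G : Type u) [Group G] [Finite G] (hG : MinCex G) (P : Res.KFacts.Pgl G) (hO : FourA.Hon.OneInv G)
    (_ : ¬ FourA.Hon.NoFld G) (hr : ¬ SectionalPRankLE 2 4 G)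
    (hex : ∃ (x a : G) (L : Subgroup G), IsTriple x a L) : False :=
  FourB.Tree.fld hG P hO (oddSol G) hr hex

theorem nodeR : NodeR.{u} := Res.TreeB.nodeR k4 EndK4All.endK4 FixBN.KnownAll.known oddSol ⟨fld, w⟩

theorem rowLie : U2.Cut.RowLie.{u} := U2.Plug.rowLie Cit.FinalMain.tStmt Cit.FinalMain.p1310 I34.Final.p34

theorem nodeU2 : NodeU2.{u} :=
  U2.Cut.nodeU2 Cit.FinalMain.p1310 p1738 EndK4.m11 EndK4Cov.ly rowLie I34.Final.p34

theorem nodeCov : NodeCov.{u} :=
  U2.Cut.nodeCov Cit.FinalMain.p1310 p1738 EndK4.m11 EndK4Cov.ly rowLie I34.Final.p34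

variable (M : Missing.{u})

include M

theorem nodeL34 : NodeL34'.{u} := nodeL34_of (UAlt.Eleven.NodeAnL.nodeAnL_of_ft oddSol) M.l34

/-- **S1311 in the form `UGT`** -/
theorem ugt : ∀ (G : Type u) [Group G] [Finite G], UGT G :=
  ugt_of_v4 nodeE nodeU2 nodeCov HeEnd.nodeHe (nodeL34 M) (UAlt.nodeAn_of_ft oddSol)
    (A9.nodeA9 oddSol k4 EndK4All.endK4) L2i.Final.nodeL2i nodeA7 nodeR

/-- **The statement of S1311** -/
theorem p1311 : OddHalf.Stmts.P1311.{u} := fun {G} _ _ hs hna t ht hcore => ugt M G hs hna t ht hcore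

end Cfsg.Agent.UGT.Final
end
end
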